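import Mathlib
import Cfsg.Agent.S0144
import Cfsg.Agent.Lib.Cores

/-!
# Extremely primitive groups whose point stabiliser has socle `U₃(3)`, abstract part (helper119, task 5949)
-/

set_option autoImplicit false
set_option linter.unusedSectionVars false

namespace Cfsg.Agent.H119.EP

open Subgroup

/-- the facts about `U₃(3)` which are used -/
structure U33 (N : Type*) [Group N] : Prop where
  card : Nat.card N = 6048
  simple : IsSimpleGroup N
  inv_le : {z : N | z * z = 1 ∧ z ≠ 1}.ncard ≤ 63
  comm_le : ∀ z : N, z * z = 1 → z ≠ 1 → {w : N | w * w = 1 ∧ w ≠ 1 ∧ w ≠ z ∧ w * z = z * w}.ncard ≤ 10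
  el : ∀ V : Subgroup N, (∀ v ∈ V, v * v = 1) → Nat.card V ≤ 4
  seven : ∀ g z : N, g ^ 7 = 1 → g ≠ 1 → z * z = 1 → g * z = z * g → z = 1
  three : ∀ g c z : N, g ^ 7 = 1 → g ≠ 1 → c ^ 3 = 1 → c ≠ 1 → c * g * c⁻¹ ∈ zpowers g → z * z = 1 →
    c * z = z * c → z = 1
  ti : ∀ (P Q : Sylow 3 N) (x : N), x ≠ 1 → x ∈ (P : Subgroup N) → x ∈ (Q : Subgroup N) → P = Q
  syl : Nat.card (Sylow 3 N) ≤ 28

instance fact7 : Fact (Nat.Prime 7) := ⟨by norm_num⟩

theorem sylow_card_seven {M : Type*} [Group M] [Finite M] (h7 : 7 ∣ Nat.card M) (hd : Nat.card M ∣ 6048)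
    (S : Sylow 7 M) : Nat.card S = 7 := by
  have h1 := S.dvd_card_of_dvd_card h7
  obtain ⟨k, hk⟩ := IsPGroup.iff_card.1 S.isPGroup'
  have h2 : Nat.card S ∣ 6048 := (Subgroup.card_subgroup_dvd_card (S : Subgroup M)).trans hd
  rcases k with _ | _ | k
  · rw [hk] at h1
    omega
  · rw [hk]; rfl
  · exfalso
    have h3 : 7 ^ 2 ∣ 6048 := by
      refine (pow_dvd_pow 7 (by omega : 2 ≤ k + 1 + 1)).trans ?_
      rw [← hk]
      exact h2
    revert h3
    norm_num

theorem num_seven {M : Type*} [Group M] [Finite M] (h7 : 7 ∣ Nat.card M) (hd : Nat.card M ∣ 6048) :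
    Nat.card (Sylow 7 M) = 1 ∨ Nat.card (Sylow 7 M) = 8 ∨ Nat.card (Sylow 7 M) = 36 ∨ Nat.card (Sylow 7 M) = 288 := by
  obtain ⟨S⟩ : Nonempty (Sylow 7 M) := inferInstance
  have h1 := sylow_card_seven h7 hd S
  have h2 := S.card_dvd_index
  have h3 : (S : Subgroup M).index ∣ 864 := by
    have h4 := (S : Subgroup M).index_mul_card
    rw [show Nat.card (S : Subgroup M) = 7 from h1] at h4
    have h5 : (S : Subgroup M).index * 7 ∣ 864 * 7 := by rw [h4]; exact hd
    exact Nat.dvd_of_mul_dvd_mul_right (by norm_num) h5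
  have h6 := h2.trans h3
  have h7 := card_sylow_modEq_one 7 M
  have key : ∀ n ∈ Finset.range 865, n ∣ 864 → n % 7 = 1 → n = 1 ∨ n = 8 ∨ n = 36 ∨ n = 288 := by decide +kernel
  exact key _ (Finset.mem_range.2 (Nat.lt_succ_of_le (Nat.le_of_dvd (by norm_num) h6))) h6 h7

variable {N : Type*} [Group N] (h : U33 N)

include h

theorem U33.finite : Finite N := Nat.finite_of_card_ne_zero (by rw [h.card]; norm_num)

theorem U33.no_index_eight (H : Subgroup N) : H.index ≠ 8 := by
  intro hi
  have := h.finite
  have := h.simple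
  have h1 : H.normalCore = ⊥ := by
    rcases (inferInstance : H.normalCore.Normal).eq_bot_or_eq_top with h2 | h2
    · exact h2
    · exfalso
      have h3 : H = ⊤ := top_le_iff.1 (h2 ▸ H.normalCore_le)
      rw [h3, index_top] at hi
      omega
  rw [normalCore_eq_ker] at h1
  have h2 : Function.Injective (MulAction.toPermHom N (N ⧸ H)) := (MonoidHom.ker_eq_bot_iff _).1 h1
  have h3 := Subgroup.card_dvd_of_injective _ h2
  rw [h.card, Nat.card_perm] at h3
  have h4 : Nat.card (N ⧸ H) = 8 := hi
  rw [h4] at h3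
  revert h3
  decide

theorem U33.card_dvd (M : Subgroup N) : Nat.card M ∣ 6048 := by
  rw [← h.card]
  exact card_subgroup_dvd_card M

theorem U33.num : Nat.card (Sylow 7 N) = 288 := by
  have := h.finite
  have := h.simple
  have h7 : 7 ∣ Nat.card N := by rw [h.card]; norm_num
  have hd : Nat.card N ∣ 6048 := by rw [h.card]
  obtain ⟨S⟩ : Nonempty (Sylow 7 N) := inferInstance
  have h1 := sylow_card_seven h7 hd S
  have h2 := S.card_eq_index_normalizer
  rcases num_seven h7 hd with h3 | h3 | h3 | h3
  · exfalso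
    rw [h3] at h2
    have h4 : normalizer (S : Set N) = ⊤ := index_eq_one.1 h2.symm
    have h5 : (S : Subgroup N).Normal := normalizer_eq_top_iff.1 h4
    rcases h5.eq_bot_or_eq_top with h6 | h6
    · have h8 : Nat.card (S : Subgroup N) = 7 := h1
      rw [h6, card_bot] at h8
      omega
    · have h8 : Nat.card (S : Subgroup N) = 7 := h1
      rw [h6, card_top, h.card] at h8
      omega
  · exfalso
    exact h.no_index_eight _ (h2.symm.trans h3)
  · exfalso
    have h4 : Nat.card (normalizer (S : Set N)) = 168 := by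
      have h5 := (normalizer (S : Set N)).card_mul_index
      rw [← h2, h3, h.card] at h5
      omega
    have hcyc : IsCyclic (S : Subgroup N) := isCyclic_of_prime_card (p := 7) h1
    have h6 : Nat.card (MulAut (S : Subgroup N)) = 6 := by
      rw [IsCyclic.card_mulAut, show Nat.card (S : Subgroup N) = 7 from h1]
      decide
    have h8 := (normalizerMonoidHom (S : Subgroup N)).ker.card_mul_index
    rw [index_ker] at h8
    have h9 : Nat.card (normalizerMonoidHom (S : Subgroup N)).range ∣ 6 := by
      rw [← h6]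
      exact card_subgroup_dvd_card _
    have h10 : 2 ∣ Nat.card (normalizerMonoidHom (S : Subgroup N)).ker := by
      rw [show Nat.card (normalizer ((S : Subgroup N) : Set N)) = 168 from h4] at h8
      obtain ⟨c, hc⟩ := h9
      set a := Nat.card (normalizerMonoidHom (S : Subgroup N)).ker
      set b := Nat.card (normalizerMonoidHom (S : Subgroup N)).range
      have h11 : a * 6 = 168 * c := by rw [hc, ← mul_assoc, h8]
      omega
    have := Fact.mk Nat.prime_two
    obtain ⟨z, hz⟩ := exists_prime_orderOf_dvd_card' 2 h10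
    let w : normalizer ((S : Subgroup N) : Set N) := z
    have hz2 : (w : N) * w = 1 := by
      have h11 := pow_orderOf_eq_one z
      rw [hz, pow_two] at h11
      exact congrArg (fun t : (normalizerMonoidHom (S : Subgroup N)).ker =>
        ((t : normalizer ((S : Subgroup N) : Set N)) : N)) h11
    obtain ⟨g, hg⟩ : ∃ g : (S : Subgroup N), g ≠ 1 := by
      have h11 : Nontrivial (S : Subgroup N) := Finite.one_lt_card_iff_nontrivial.1 (by
        rw [show Nat.card (S : Subgroup N) = 7 from h1]; norm_num)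
      exact exists_ne 1
    have hg7 : (g : N) ^ 7 = 1 := by
      have h11 : g ^ Nat.card (S : Subgroup N) = 1 := pow_card_eq_one'
      rw [show Nat.card (S : Subgroup N) = 7 from h1] at h11
      exact congrArg Subtype.val h11
    have hzc : (w : N) ∈ centralizer ((S : Subgroup N) : Set N) := by
      have h11 : w ∈ (normalizerMonoidHom (S : Subgroup N)).ker := z.2
      rw [normalizerMonoidHom_ker] at h11
      exact h11
    have h12 := h.seven (g : N) (w : N) hg7 (fun e => hg (Subtype.ext e)) hz2
      (mem_centralizer_iff.1 hzc g g.2)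
    have h13 : z = 1 := Subtype.ext (Subtype.ext h12)
    rw [h13, orderOf_one] at hz
    omega
  · exact h3

theorem U33.card_norm (P : Subgroup N) (hP : Nat.card P = 7) : Nat.card (normalizer (P : Set N)) = 21 := by
  have := h.finite
  have hS : (Nat.card P) = 7 ^ (Nat.card N).factorization 7 := by
    have h1 : 7 ∣ Nat.card N := by rw [h.card]; norm_num
    obtain ⟨S⟩ : Nonempty (Sylow 7 N) := inferInstance
    rw [← S.card_eq_multiplicity, hP]
    exact (sylow_card_seven h1 (by rw [h.card]) S).symm
  let S : Sylow 7 N := Sylow.ofCard P hS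
  have h2 := S.card_eq_index_normalizer
  have h3 : (S : Subgroup N) = P := rfl
  rw [h.num, show normalizer (S : Set N) = normalizer (P : Set N) from rfl] at h2
  have h4 := (normalizer (P : Set N)).card_mul_index
  rw [← h2, h.card] at h4
  omega

/-! ### double counting -/

omit h in
theorem double {α β : Type*} [Finite α] [Finite β] (s : Set α) (t : Set β) (r : α → β → Prop) (m : ℕ)
    (hm : ∀ a ∈ s, m ≤ {b | b ∈ t ∧ r a b}.ncard)
    (hn : ∀ b ∈ t, ∀ a ∈ s, ∀ a' ∈ s, r a b → r a' b → a = a') : s.ncard * m ≤ t.ncard := by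
  classical
  have := Fintype.ofFinite α
  have := Fintype.ofFinite β
  rw [Set.ncard_eq_toFinset_card', Set.ncard_eq_toFinset_card' t]
  have h1 := Finset.card_mul_le_card_mul (s := s.toFinset) (t := t.toFinset) (m := m) (n := 1) r (by
    intro a ha
    refine (hm a (Set.mem_toFinset.1 ha)).trans ?_
    rw [Set.ncard_eq_toFinset_card']
    apply Finset.card_le_card
    intro b hb
    rw [Set.mem_toFinset] at hb
    rw [Finset.mem_bipartiteAbove, Set.mem_toFinset]
    exact hb) (by
    intro b hb
    rw [Finset.card_le_one]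
    intro a ha a' ha'
    rw [Finset.mem_bipartiteBelow, Set.mem_toFinset] at ha ha'
    exact hn b (Set.mem_toFinset.1 hb) a ha.1 a' ha'.1 ha.2 ha'.2)
  rwa [mul_one] at h1

end Cfsg.Agent.H119.EP
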