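import Cfsg.Agent.H119.EP.UAbs

/-!
# The number of objects (helper119, task 5949)
-/

set_option autoImplicit false
set_option linter.unusedSectionVars false

namespace Cfsg.Agent.H119.EP

open Subgroup

variable {N : Type*} [Group N] (h : U33 N)

include h

/-! ### subgroups of order 7 -/

theorem U33.ofCard (M P : Subgroup N) (hP : Nat.card P = 7) (hPM : P ≤ M) :
    ∃ S : Sylow 7 M, (S : Subgroup M) = P.subgroupOf M := by
  have := h.finite
  have h7 : 7 ∣ Nat.card M := hP ▸ card_dvd_of_le hPM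
  have h1 : Nat.card (P.subgroupOf M) = 7 := by
    rw [← hP]
    exact Nat.card_congr (subgroupOfEquivOfLe hPM).toEquiv
  obtain ⟨S⟩ : Nonempty (Sylow 7 M) := inferInstance
  have h2 : Nat.card (P.subgroupOf M) = 7 ^ (Nat.card M).factorization 7 := by
    rw [← S.card_eq_multiplicity, h1]
    exact (sylow_card_seven h7 (h.card_dvd M) S).symm
  exact ⟨Sylow.ofCard _ h2, rfl⟩

theorem U33.norm_inf (M P : Subgroup N) (hP : Nat.card P = 7) (hPM : P ≤ M) :
    Nat.card (Sylow 7 M) * Nat.card (normalizer (P : Set N) ⊓ M : Subgroup N) = Nat.card M := by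
  have := h.finite
  obtain ⟨S, hS⟩ := h.ofCard M P hP hPM
  have h1 := S.card_eq_index_normalizer
  have h2 : normalizer ((S : Subgroup M) : Set M) = (normalizer (P : Set N)).subgroupOf M := by
    rw [hS]
    ext x
    rw [mem_subgroupOf, mem_normalizer_iff, mem_normalizer_iff]
    constructor
    · intro h3 y
      constructor
      · intro hy
        exact (h3 ⟨y, hPM hy⟩).1 hy
      · intro hy
        have h4 : y ∈ M := by
          have h5 := M.mul_mem (M.mul_mem (M.inv_mem x.2) (hPM hy)) x.2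
          have e : (x : N)⁻¹ * (x * y * (x : N)⁻¹) * x = y := by group
          rwa [e] at h5
        exact (h3 ⟨y, h4⟩).2 hy
    · intro h3 y
      exact h3 y
  have h3 : Nat.card ((normalizer (P : Set N)).subgroupOf M) = Nat.card (normalizer (P : Set N) ⊓ M : Subgroup N) := by
    rw [← inf_subgroupOf_right]
    exact Nat.card_congr (subgroupOfEquivOfLe inf_le_right).toEquiv
  rw [h1, ← h3, ← h2]
  exact (normalizer ((S : Subgroup M) : Set M)).index_mul_card

theorem U33.sylow_ncard (M : Subgroup N) (h7 : 7 ∣ Nat.card M) :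
    Nat.card (Sylow 7 M) ≤ {P : Subgroup N | Nat.card P = 7 ∧ P ≤ M}.ncard := by
  have := h.finite
  rw [← Set.ncard_univ]
  apply Set.ncard_le_ncard_of_injOn (fun S : Sylow 7 M => (S : Subgroup M).map M.subtype)
  · intro S _
    refine ⟨?_, map_subtype_le _⟩
    rw [card_map_of_injective (subtype_injective M)]
    exact sylow_card_seven h7 (h.card_dvd M) S
  · intro S _ T _ e
    exact Sylow.ext (map_injective (subtype_injective M) e)

theorem U33.ncard_seven : {P : Subgroup N | Nat.card P = 7}.ncard ≤ 288 := by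
  have := h.finite
  rw [← h.num, ← Set.ncard_univ]
  have key : ∀ P : Subgroup N, Nat.card P = 7 → ∃ S : Sylow 7 N, (S : Subgroup N) = P := by
    intro P hP
    obtain ⟨S⟩ : Nonempty (Sylow 7 N) := inferInstance
    have h2 : Nat.card P = 7 ^ (Nat.card N).factorization 7 := by
      rw [← S.card_eq_multiplicity, hP]
      exact (sylow_card_seven (by rw [h.card]; norm_num) (by rw [h.card]) S).symm
    exact ⟨Sylow.ofCard _ h2, rfl⟩
  choose! f hf using key
  apply Set.ncard_le_ncard_of_injOn f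
  · intro P _
    exact Set.mem_univ _
  · intro P hP Q hQ e
    rw [← hf P hP, ← hf Q hQ, e]

/-! ### subgroups of order 168 -/

omit h in
/-- subgroups of order 168 with 8 subgroups of order 7 -/
def KT (N : Type*) [Group N] : Set (Subgroup N) := {K | Nat.card K = 168 ∧ Nat.card (Sylow 7 K) = 8}

theorem U33.norm_le {K P : Subgroup N} (hK : K ∈ KT N) (hP : Nat.card P = 7) (hPK : P ≤ K) :
    normalizer (P : Set N) ≤ K := by
  have := h.finite
  have h1 := h.norm_inf K P hP hPK
  rw [hK.1, hK.2] at h1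
  have h2 : Nat.card (normalizer (P : Set N) ⊓ K : Subgroup N) = 21 := by omega
  have h3 : normalizer (P : Set N) ⊓ K = normalizer (P : Set N) := by
    apply eq_of_le_of_card_ge inf_le_left
    rw [h2, h.card_norm P hP]
  exact inf_eq_left.1 h3

theorem U33.K_unique {K K' P : Subgroup N} (hK : K ∈ KT N) (hK' : K' ∈ KT N) (hP : Nat.card P = 7) (hPK : P ≤ K)
    (hPK' : P ≤ K') {z : N} (hz : z * z = 1) (hz1 : z ≠ 1) (hzK : z ∈ K) (hzK' : z ∈ K') : K = K' := by
  have := h.finite
  have h1 := h.norm_inf (K ⊓ K') P hP (le_inf hPK hPK')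
  have h2 : normalizer (P : Set N) ⊓ (K ⊓ K') = normalizer (P : Set N) :=
    inf_eq_left.2 (le_inf (h.norm_le hK hP hPK) (h.norm_le hK' hP hPK'))
  rw [h2, h.card_norm P hP] at h1
  have h7 : 7 ∣ Nat.card (K ⊓ K' : Subgroup N) := ⟨Nat.card (Sylow 7 (K ⊓ K' : Subgroup N)) * 3, by rw [← h1]; ring⟩
  have h3 : Nat.card (K ⊓ K' : Subgroup N) ∣ 168 := by
    rw [← hK.1]
    exact card_dvd_of_le inf_le_left
  have hodd : 2 ∣ Nat.card (K ⊓ K' : Subgroup N) := by
    have h4 : orderOf (⟨z, hzK, hzK'⟩ : (K ⊓ K' : Subgroup N)) = 2 := by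
      apply orderOf_eq_prime
      · rw [pow_two]; exact Subtype.ext hz
      · intro e
        exact hz1 (congrArg Subtype.val e)
    rw [← h4]
    exact orderOf_dvd_natCard _
  have h5 : Nat.card (K ⊓ K' : Subgroup N) = 168 := by
    rcases num_seven h7 (h.card_dvd _) with h6 | h6 | h6 | h6
    · rw [h6] at h1; omega
    · rw [h6] at h1; omega
    · rw [h6] at h1
      have := Nat.le_of_dvd (by norm_num) h3
      omega
    · rw [h6] at h1
      have := Nat.le_of_dvd (by norm_num) h3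
      omega
  have h6 : K ⊓ K' = K := eq_of_le_of_card_ge inf_le_left (by rw [h5, hK.1])
  have h7 : K ⊓ K' = K' := eq_of_le_of_card_ge inf_le_right (by rw [h5, hK'.1])
  rw [← h6, h7]

theorem U33.K_inv {K : Subgroup N} (hK : K ∈ KT N) : 21 ≤ {z : N | (z * z = 1 ∧ z ≠ 1) ∧ z ∈ K}.ncard := by
  have := h.finite
  have h7 : 7 ∣ Nat.card K := by rw [hK.1]; norm_num
  obtain ⟨P, hP, hPK⟩ : {P : Subgroup N | Nat.card P = 7 ∧ P ≤ K}.Nonempty := by
    rw [← Set.ncard_pos (Set.toFinite _)]
    have := h.sylow_ncard K h7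
    rw [hK.2] at this
    omega
  have hB := h.norm_le hK hP hPK
  have := Fact.mk Nat.prime_two
  obtain ⟨z, hz⟩ := exists_prime_orderOf_dvd_card' 2 (show 2 ∣ Nat.card K by rw [hK.1]; norm_num)
  have hzz : (z : N) * z = 1 := by
    have h1 := pow_orderOf_eq_one z
    rw [hz, pow_two] at h1
    exact congrArg Subtype.val h1
  have hz1 : (z : N) ≠ 1 := by
    intro e
    have h1 : z = 1 := Subtype.ext e
    rw [h1, orderOf_one] at hz
    omega
  have hcyc : IsCyclic P := isCyclic_of_prime_card (p := 7) hP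
  obtain ⟨g, hg⟩ := hcyc.exists_generator
  have hg7 : (g : N) ^ 7 = 1 := by
    have h11 : g ^ Nat.card P = 1 := pow_card_eq_one'
    rw [hP] at h11
    exact congrArg Subtype.val h11
  have hPg : P = zpowers (g : N) := by
    apply le_antisymm
    · intro y hy
      obtain ⟨k, hk⟩ := mem_zpowers_iff.1 (hg ⟨y, hy⟩)
      exact mem_zpowers_iff.2 ⟨k, congrArg Subtype.val hk⟩
    · rw [zpowers_le]
      exact g.2
  have hg1 : (g : N) ≠ 1 := by
    intro e
    rw [e, zpowers_one_eq_bot] at hPg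
    rw [hPg, card_bot] at hP
    omega
  have hcard : {b : N | b ∈ normalizer (P : Set N)}.ncard = 21 := h.card_norm P hP
  rw [← hcard]
  apply Set.ncard_le_ncard_of_injOn (fun b : N => b * (z : N) * b⁻¹)
  · intro b hb
    refine ⟨⟨?_, ?_⟩, ?_⟩
    · calc b * z * b⁻¹ * (b * z * b⁻¹) = b * (z * z) * b⁻¹ := by group
        _ = 1 := by rw [hzz, mul_one, mul_inv_cancel]
    · intro e
      apply hz1
      rw [mul_inv_eq_one] at e
      exact mul_eq_left.1 e
    · exact K.mul_mem (K.mul_mem (hB hb) z.2) (K.inv_mem (hB hb))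
  · intro b hb b' hb' e
    simp only at e
    by_contra hne
    -- `c = b'⁻¹ b` commutes with `z`
    have hc : b'⁻¹ * b * z = z * (b'⁻¹ * b) := by
      calc b'⁻¹ * b * z = b'⁻¹ * (b * z * b⁻¹) * b := by group
        _ = b'⁻¹ * (b' * z * b'⁻¹) * b := by rw [e]
        _ = z * (b'⁻¹ * b) := by group
    have hcB : b'⁻¹ * b ∈ normalizer (P : Set N) := mul_mem (inv_mem hb') hb
    have hc1 : b'⁻¹ * b ≠ 1 := by
      intro e2
      exact hne (inv_mul_eq_one.1 e2).symm
    set c := b'⁻¹ * b with hcdef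
    have hc21 : c ^ 21 = 1 := by
      have h11 : (⟨c, hcB⟩ : normalizer (P : Set N)) ^ Nat.card (normalizer (P : Set N)) = 1 := pow_card_eq_one'
      rw [h.card_norm P hP] at h11
      exact congrArg Subtype.val h11
    by_cases h3 : c ^ 3 = 1
    · apply hz1
      apply h.three g c z hg7 hg1 h3 hc1 _ hzz hc
      rw [← hPg]
      exact (mem_normalizer_iff.1 hcB _).1 g.2
    · apply hz1
      apply h.seven (c ^ 3) z _ h3 hzz
      · exact (Commute.pow_left (show Commute c z from hc) 3).eq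
      · rw [← pow_mul]
        exact hc21

theorem U33.ncard_KT : (KT N).ncard ≤ 108 := by
  have := h.finite
  have h1 := double (KT N) ({P : Subgroup N | Nat.card P = 7} ×ˢ {z : N | z * z = 1 ∧ z ≠ 1})
    (fun K p => p.1 ≤ K ∧ p.2 ∈ K) 168 (by
      intro K hK
      have h2 : {P : Subgroup N | Nat.card P = 7 ∧ P ≤ K} ×ˢ {z : N | (z * z = 1 ∧ z ≠ 1) ∧ z ∈ K} ⊆
          {b | b ∈ {P : Subgroup N | Nat.card P = 7} ×ˢ {z : N | z * z = 1 ∧ z ≠ 1} ∧ (b.1 ≤ K ∧ b.2 ∈ K)} := by
        rintro ⟨P, z⟩ ⟨h3, h4⟩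
        exact ⟨⟨h3.1, h4.1⟩, h3.2, h4.2⟩
      refine le_trans ?_ (Set.ncard_le_ncard h2 (Set.toFinite _))
      rw [Set.ncard_prod]
      have h3 := h.sylow_ncard K (by rw [hK.1]; norm_num)
      rw [hK.2] at h3
      have h4 := h.K_inv hK
      calc 168 = 8 * 21 := by norm_num
        _ ≤ _ := Nat.mul_le_mul h3 h4)
    (by
      rintro ⟨P, z⟩ ⟨hP, hz⟩ K hK K' hK' ⟨h2, h3⟩ ⟨h4, h5⟩
      exact h.K_unique hK hK' hP h2 h4 hz.1 hz.2 h3 h5)
  rw [Set.ncard_prod] at h1
  have h2 := Nat.mul_le_mul h.ncard_seven h.inv_le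
  omega

end Cfsg.Agent.H119.EP
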