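import Cfsg.Agent.H119.EP.UExists
import Cfsg.Agent.H284.EP.TForm

/-!
# Extremely primitive groups whose point stabiliser has socle `U₃(3)` (helper119, task 5949)
-/

set_option autoImplicit false
set_option linter.unusedSectionVars false

namespace Cfsg.Agent.H119.EP

open Subgroup Cfsg.Agent.H284

section

variable {Q : Type*} [Group Q] [Finite Q] {A : Subgroup Q} {Γ : Subgroup (MulAut Q)} (h : EPT A Γ)
  {N : Subgroup Q} (hNA : N ≤ A) (hNn : ∀ a ∈ A, ∀ n ∈ N, a * n * a⁻¹ ∈ N) (hU : U33 N)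
  (hC : ∀ a ∈ A, (∀ n ∈ N, a * n = n * a) → a = 1)

include hU in
theorem N_ne : N ≠ ⊥ := by
  intro e
  have h1 := hU.card
  rw [e, card_bot] at h1
  omega

include hU in
theorem N_not_comm (hcomm : ∀ a ∈ N, ∀ b ∈ N, a * b = b * a) : False := by
  have := hU.finite
  have := Fact.mk (show Nat.Prime 7 by norm_num)
  obtain ⟨g, hg⟩ := exists_prime_orderOf_dvd_card' (G := N) 7 (by rw [hU.card]; norm_num)
  have h1 := hU.card_norm (zpowers g) (by rw [Nat.card_zpowers, hg])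
  have h2 : normalizer ((zpowers g : Subgroup N) : Set N) = ⊤ := by
    rw [eq_top_iff']
    intro x
    rw [mem_normalizer_iff]
    intro y
    have h3 : x * y * x⁻¹ = y := by
      have h4 := Subtype.ext (hcomm x x.2 y y.2) (a1 := x * y) (a2 := y * x)
      rw [h4, mul_inv_cancel_right]
    rw [h3]
  rw [h2, card_top, hU.card] at h1
  omega

include h hNA hNn hU hC

theorem inv_N : ∀ σ ∈ Γ, ∀ n ∈ N, σ n ∈ N := by
  intro σ hσ
  have := hU.simple
  have hσA : ∀ a ∈ A, σ a ∈ A := fun a ha => (h.inv σ hσ a).2 ha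
  have hσA' : ∀ a ∈ A, σ⁻¹ a ∈ A := fun a ha => (h.inv _ (inv_mem hσ) a).2 ha
  -- `σ N` is normalised by `A`
  have h1 : ∀ a ∈ A, ∀ m ∈ N.map σ.toMonoidHom, a * m * a⁻¹ ∈ N.map σ.toMonoidHom := by
    rintro a ha _ ⟨n, hn, rfl⟩
    refine ⟨σ⁻¹ a * n * (σ⁻¹ a)⁻¹, hNn _ (hσA' a ha) n hn, ?_⟩
    show σ (σ⁻¹ a * n * (σ⁻¹ a)⁻¹) = a * σ n * a⁻¹
    rw [map_mul, map_mul, map_inv, MulAut.apply_inv_self]
  have hn : ((N.map σ.toMonoidHom).subgroupOf N).Normal := by
    constructor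
    intro m hm g
    exact h1 _ (hNA g.2) _ hm
  rcases hn.eq_bot_or_eq_top with h2 | h2
  · exfalso
    apply N_ne hU
    rw [eq_bot_iff_forall]
    intro n hn
    have h3 : σ n = 1 := by
      apply hC _ (hσA n (hNA hn))
      intro m hm
      have h4 : σ n * m * (σ n)⁻¹ * m⁻¹ ∈ N := N.mul_mem (hNn _ (hσA n (hNA hn)) m hm) (N.inv_mem hm)
      have h5 : σ n * m * (σ n)⁻¹ * m⁻¹ ∈ N.map σ.toMonoidHom := by
        have h6 := h1 m (hNA hm) _ (inv_mem (show σ n ∈ N.map σ.toMonoidHom from ⟨n, hn, rfl⟩))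
        have h7 := mul_mem (show σ n ∈ N.map σ.toMonoidHom from ⟨n, hn, rfl⟩) h6
        have e : σ n * (m * (σ n)⁻¹ * m⁻¹) = σ n * m * (σ n)⁻¹ * m⁻¹ := by group
        rwa [e] at h7
      have h6 : (⟨_, h4⟩ : N) ∈ (N.map σ.toMonoidHom).subgroupOf N := h5
      rw [h2, mem_bot] at h6
      have h7 : σ n * m * (σ n)⁻¹ * m⁻¹ = 1 := congrArg Subtype.val h6
      rw [mul_inv_eq_one, mul_inv_eq_iff_eq_mul] at h7
      exact h7
    exact (map_eq_one_iff σ σ.injective).1 h3
  · rw [subgroupOf_eq_top] at h2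
    have h3 : N = N.map σ.toMonoidHom := by
      apply eq_of_le_of_card_ge h2
      rw [card_map_of_injective (K := N) (f := σ.toMonoidHom) σ.injective]
    intro n hn
    rw [h3]
    exact ⟨n, hn, rfl⟩

omit h in
theorem card_A (hAut : Nat.card (MulAut N) ≤ 12096) : Nat.card A ≤ 12096 := by
  have hn : (N.subgroupOf A).Normal := by
    constructor
    intro m hm g
    exact hNn _ g.2 _ hm
  have h1 : Function.Injective (MulAut.conjNormal : A →* MulAut (N.subgroupOf A)) := by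
    rw [injective_iff_map_eq_one]
    intro a ha
    apply Subtype.ext
    apply hC _ a.2
    intro n hn
    have h2 := congrArg (fun φ : MulAut (N.subgroupOf A) => ((φ ⟨⟨n, hNA hn⟩, hn⟩ : A) : Q)) ha
    simp only [MulAut.conjNormal_apply, MulAut.one_apply] at h2
    have h3 : (a : Q) * n * (a : Q)⁻¹ = n := h2
    rwa [mul_inv_eq_iff_eq_mul] at h3
  have h2 := Nat.card_le_card_of_injective _ h1
  have h3 : Nat.card (MulAut (N.subgroupOf A)) = Nat.card (MulAut N) :=
    Nat.card_congr (MulAut.congr (subgroupOfEquivOfLe hNA)).toEquiv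
  omega

theorem inf_ne (hAut : Nat.card (MulAut N) ≤ 12096) {x : Q} (hx : x ∉ A) : (cj x A).subgroupOf N ≠ ⊥ := by
  intro e
  have := hU.simple
  have hcA := card_A hNA hNn hU hC hAut
  have hinf : ∀ y ∈ N, y ∈ cj x A → y = 1 := by
    intro y hy hy2
    have h1 : (⟨y, hy⟩ : N) ∈ (cj x A).subgroupOf N := hy2
    rw [e, mem_bot] at h1
    exact congrArg Subtype.val h1
  have h1 : Nat.card (A ⊓ cj x A : Subgroup Q) ≤ 2 := by
    have h2 : Nat.card ((A ⊓ cj x A : Subgroup Q) × N) ≤ Nat.card A := by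
      apply Nat.card_le_card_of_injective
        (fun p => (⟨p.1.1 * p.2.1, A.mul_mem (mem_inf.1 p.1.2).1 (hNA p.2.2)⟩ : A))
      rintro ⟨a, n⟩ ⟨b, m⟩ he
      have e1 : (a : Q) * n = b * m := congrArg Subtype.val he
      have e2 : (b : Q)⁻¹ * a = m * (n : Q)⁻¹ := by
        rw [inv_mul_eq_iff_eq_mul, ← mul_assoc, ← e1, mul_assoc, mul_inv_cancel, mul_one]
      have e3 : (m : Q) * (n : Q)⁻¹ = 1 := by
        apply hinf _ (N.mul_mem m.2 (N.inv_mem n.2))
        rw [← e2]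
        exact mul_mem (inv_mem (mem_inf.1 b.2).2) (mem_inf.1 a.2).2
      rw [e3, inv_mul_eq_one] at e2
      rw [mul_inv_eq_one] at e3
      exact Prod.ext (Subtype.ext e2.symm) (Subtype.ext e3.symm)
    rw [Nat.card_prod, hU.card] at h2
    omega
  have hab : ∀ a ∈ A ⊓ cj x A, ∀ b ∈ A ⊓ cj x A, a * b = b * a := by
    classical
    intro a ha b hb
    rcases eq_or_ne a 1 with rfl | ha1
    · rw [one_mul, mul_one]
    rcases eq_or_ne b 1 with rfl | hb1
    · rw [one_mul, mul_one]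
    rcases eq_or_ne a b with rfl | hne
    · rfl
    exfalso
    have h2 : ({1, a, b} : Set Q) ⊆ ((A ⊓ cj x A : Subgroup Q) : Set Q) := by
      rintro y (rfl | rfl | rfl)
      · exact one_mem _
      · exact ha
      · exact hb
    have h3 := Set.ncard_le_ncard h2 (Set.toFinite _)
    have h4 : ({1, a, b} : Set Q).ncard = 3 := by
      rw [Set.ncard_insert_of_notMem (by simp [ha1.symm, hb1.symm]), Set.ncard_pair hne]
    rw [h4] at h3
    have h5 : ((A ⊓ cj x A : Subgroup Q) : Set Q).ncard ≤ 2 := h1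
    omega
  obtain ⟨K, hKA, hKi, hK1, hKab⟩ := h.abM0 x hx hab
  have hKn : ∀ a ∈ A, ∀ k ∈ K, a * k * a⁻¹ ∈ K := by
    intro a ha k hk
    exact hKi _ ((h.conj a).2 ha) k hk
  have hn : (K.subgroupOf N).Normal := by
    constructor
    intro m hm g
    exact hKn _ (hNA g.2) _ hm
  rcases hn.eq_bot_or_eq_top with h2 | h2
  · apply hK1
    rw [eq_bot_iff_forall]
    intro k hk
    apply hC _ (hKA hk)
    intro n hn
    have h4 : k * n * k⁻¹ * n⁻¹ ∈ N := N.mul_mem (hNn _ (hKA hk) n hn) (N.inv_mem hn)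
    have h5 : k * n * k⁻¹ * n⁻¹ ∈ K := by
      have h7 := K.mul_mem hk (hKn n (hNA hn) _ (K.inv_mem hk))
      have e : k * (n * k⁻¹ * n⁻¹) = k * n * k⁻¹ * n⁻¹ := by group
      rwa [e] at h7
    have h6 : (⟨_, h4⟩ : N) ∈ K.subgroupOf N := h5
    rw [h2, mem_bot] at h6
    have h7 : k * n * k⁻¹ * n⁻¹ = 1 := congrArg Subtype.val h6
    rw [mul_inv_eq_one, mul_inv_eq_iff_eq_mul] at h7
    exact h7
  · rw [subgroupOf_eq_top] at h2
    exact N_not_comm hU fun a ha b hb => hKab a (h2 ha) b (h2 hb)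

theorem exists_O (hAut : Nat.card (MulAut N) ≤ 12096) {x : Q} (hx : x ∉ A) :
    ∃ O ∈ Obj N, A ⊓ cj x A = A ⊓ normalizer ((O.map N.subtype : Subgroup Q) : Set Q) := by
  have := hU.simple
  have hNi := inv_N h hNA hNn hU hC
  have hM1 : (cj x A).subgroupOf N ≠ ⊥ := inf_ne h hNA hNn hU hC hAut hx
  have hM2 : (cj x A).subgroupOf N ≠ ⊤ := by
    intro e
    rw [subgroupOf_eq_top] at e
    exact N_ne hU (h.F1 x hx N hNA hNi e)
  obtain ⟨O, hO, hOi⟩ := hU.exists_obj _ hM1 hM2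
  refine ⟨O, hO, ?_⟩
  have hmem : ∀ n : N, (n : Q) ∈ O.map N.subtype ↔ n ∈ O := by
    intro n
    exact mem_map_iff_mem (subtype_injective N)
  -- the stabiliser of `x A` fixes `O`
  have key : ∀ σ ∈ Γ, x⁻¹ * σ x ∈ A → ∀ k, σ k ∈ O.map N.subtype ↔ k ∈ O.map N.subtype := by
    intro σ hσ hσx k
    let τ : MulAut N :=
      { toFun := fun n => ⟨σ n, hNi σ hσ n n.2⟩
        invFun := fun n => ⟨σ⁻¹ n, hNi _ (inv_mem hσ) n n.2⟩
        left_inv := fun n => Subtype.ext (MulAut.inv_apply_self Q σ n)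
        right_inv := fun n => Subtype.ext (MulAut.apply_inv_self Q σ n)
        map_mul' := fun n m => Subtype.ext (map_mul σ (n : Q) m) }
    have hτ : ((cj x A).subgroupOf N).map τ.toMonoidHom = (cj x A).subgroupOf N := by
      apply eq_of_le_of_card_ge
      · rintro _ ⟨n, hn, rfl⟩
        exact (mem_inf.1 (h.stab_M0 hσ hσx ⟨hNA n.2, hn⟩)).2
      · rw [card_map_of_injective (K := (cj x A).subgroupOf N) (f := τ.toMonoidHom) τ.injective]
    have h1 := hOi τ hτ
    constructor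
    · rintro ⟨n, hn, e⟩
      have hn' := hn
      rw [← h1] at hn'
      obtain ⟨m, hm, e2⟩ := hn'
      have e3 : σ (m : Q) = n := congrArg Subtype.val e2
      have e4 : k = m := σ.injective (e.symm.trans e3.symm)
      rw [e4]
      exact ⟨m, hm, rfl⟩
    · rintro ⟨n, hn, rfl⟩
      have h2 : τ n ∈ O := by
        rw [← h1]
        exact ⟨n, hn, rfl⟩
      exact ⟨τ n, h2, rfl⟩
  let L : Subgroup (MulAut Q) :=
    { carrier := {σ | σ ∈ Γ ∧ ∀ k, σ k ∈ O.map N.subtype ↔ k ∈ O.map N.subtype}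
      one_mem' := ⟨one_mem _, fun k => Iff.rfl⟩
      mul_mem' := fun {a b} ha hb => ⟨mul_mem ha.1 hb.1, fun k => by
        rw [MulAut.mul_apply, ha.2, hb.2]⟩
      inv_mem' := fun {a} ha => ⟨inv_mem ha.1, fun k => by
        rw [← ha.2 (a⁻¹ k), MulAut.apply_inv_self]⟩ }
  have hnorm : ∀ a : Q, a ∈ normalizer ((O.map N.subtype : Subgroup Q) : Set Q) ↔
      ∀ k, MulAut.conj a k ∈ O.map N.subtype ↔ k ∈ O.map N.subtype := by
    intro a
    rw [mem_normalizer_iff]
    exact forall_congr' fun k => Iff.comm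
  rcases h.two x hx L (fun σ hσ => hσ.1) (fun σ hσ hσx => ⟨hσ, key σ hσ hσx⟩) with h1 | h1
  · exfalso
    have hn : O.Normal := by
      constructor
      intro o ho g
      have h2 : MulAut.conj (g : Q) ∈ L := by
        rw [h1]
        exact (h.conj _).2 (hNA g.2)
      have h3 := (h2.2 (o : Q)).2 ((hmem o).2 ho)
      rw [← hmem]
      exact h3
    rcases hn.eq_bot_or_eq_top with h2 | h2
    · exact (hU.obj_ne hO).1 h2
    · exact (hU.obj_ne hO).2 h2
  · ext a
    rw [mem_inf, mem_inf]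
    refine and_congr_right fun ha => ?_
    rw [hnorm, ← h.conj_stab ha]
    constructor
    · intro h2
      exact key _ ((h.conj a).2 ha) h2
    · intro h2
      exact h1 _ ⟨(h.conj a).2 ha, h2⟩

theorem index_le_of (hAut : Nat.card (MulAut N) ≤ 12096) : A.index ≤ 379000 := by
  have := hU.finite
  have h1 : {M : Subgroup Q | ∃ x, x ∉ A ∧ M = A ⊓ cj x A} ⊆
      (fun O : Subgroup N => A ⊓ normalizer ((O.map N.subtype : Subgroup Q) : Set Q)) '' Obj N := by
    rintro _ ⟨x, hx, rfl⟩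
    obtain ⟨O, hO, e⟩ := exists_O h hNA hNn hU hC hAut hx
    exact ⟨O, hO, e.symm⟩
  have h2 := (Set.ncard_le_ncard h1 (Set.toFinite _)).trans (Set.ncard_image_le (Set.toFinite _))
  have h3 := h2.trans hU.ncard_obj
  have h4 := h.index_le
  have h5 := Nat.pow_le_pow_left h3 2
  omega

end

end Cfsg.Agent.H119.EP
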