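import Cfsg.Agent.H119.EP.UObj
import Cfsg.Agent.H479.GoodPSLTwoB

/-!
# Every subgroup of `U₃(3)` has an invariant object (helper119, task 5949)
-/

set_option autoImplicit false
set_option linter.unusedSectionVars false

namespace Cfsg.Agent.H119.EP

open Subgroup Cfsg
open Cfsg.Agent.Lib.Cores (pCore_normal pCore_isPGroup le_pCore pCore_characteristic)

section general

variable {N : Type*} [Group N]

/-- images of characteristic subgroups -/
theorem char_map [Finite N] {M : Subgroup N} {τ : MulAut N} (hτ : M.map τ.toMonoidHom = M) (C : Subgroup M)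
    (hC : C.Characteristic) : (C.map M.subtype).map τ.toMonoidHom = C.map M.subtype := by
  let τM : M ≃* M := (τ.subgroupMap M).trans (MulEquiv.subgroupCongr hτ)
  have h1 : ∀ m : M, ((τM m : M) : N) = τ m := fun m => rfl
  apply eq_of_le_of_card_ge
  · rintro _ ⟨_, ⟨c, hc, rfl⟩, rfl⟩
    have h2 : τM c ∈ C := by
      have h3 := characteristic_iff_map_eq.1 hC τM
      rw [← h3]
      exact ⟨c, hc, rfl⟩
    exact ⟨τM c, h2, h1 c⟩
  · rw [card_map_of_injective (K := C.map M.subtype) (f := τ.toMonoidHom) τ.injective]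

/-- `Ω₁(Z(O₂(M)))` -/
def Om (M : Type*) [Group M] : Subgroup M where
  carrier := {x | x ∈ pCore 2 M ∧ (∀ y ∈ pCore 2 M, x * y = y * x) ∧ x * x = 1}
  one_mem' := ⟨one_mem _, fun y _ => by rw [one_mul, mul_one], one_mul 1⟩
  mul_mem' := by
    rintro a b ⟨ha, ha1, ha2⟩ ⟨hb, hb1, hb2⟩
    refine ⟨mul_mem ha hb, fun y hy => ?_, ?_⟩
    · rw [mul_assoc, hb1 y hy, ← mul_assoc, ha1 y hy, mul_assoc]
    · rw [mul_assoc, ← mul_assoc b a b, ← ha1 b hb, mul_assoc a b b, hb2, mul_one, ha2]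
  inv_mem' := by
    rintro a ⟨ha, ha1, ha2⟩
    refine ⟨inv_mem ha, fun y hy => ?_, ?_⟩
    · rw [inv_mul_eq_iff_eq_mul, ← mul_assoc, ha1 y hy, mul_inv_cancel_right]
    · rw [← mul_inv_rev, ha2, inv_one]

theorem Om_char (M : Type*) [Group M] : (Om M).Characteristic := by
  rw [characteristic_iff_le_comap]
  intro φ x hx
  have h1 : ∀ y, φ y ∈ pCore 2 M ↔ y ∈ pCore 2 M := by
    intro y
    have h2 := characteristic_iff_comap_eq.1 (pCore_characteristic (G := M) 2) φ
    have h3 : y ∈ (pCore 2 M).comap φ.toMonoidHom ↔ y ∈ pCore 2 M := by rw [h2]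
    exact h3
  refine ⟨(h1 x).2 hx.1, fun y hy => ?_, ?_⟩
  · obtain ⟨w, rfl⟩ := φ.surjective y
    show φ x * φ w = φ w * φ x
    rw [← map_mul, ← map_mul, hx.2.1 w ((h1 w).1 hy)]
  · show φ x * φ x = 1
    rw [← map_mul, hx.2.2, map_one]

theorem Om_ne {M : Type*} [Group M] [Finite M] (h : pCore 2 M ≠ ⊥) : Om M ≠ ⊥ := by
  have := Fact.mk Nat.prime_two
  have h1 : Nontrivial (pCore 2 M) := (nontrivial_iff_ne_bot _).2 h
  have hp := pCore_isPGroup (G := M) 2
  have h2 := hp.center_nontrivial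
  have h3 : 2 ∣ Nat.card (center (pCore 2 M)) := by
    obtain ⟨k, hk⟩ := IsPGroup.iff_card.1 (hp.to_subgroup (center (pCore 2 M)))
    rw [hk]
    apply dvd_pow_self
    rintro rfl
    have := Finite.one_lt_card_iff_nontrivial.2 h2
    rw [hk] at this
    simp at this
  obtain ⟨z, hz⟩ := exists_prime_orderOf_dvd_card' 2 h3
  intro e
  have hzz : ((z : pCore 2 M) : M) * ((z : pCore 2 M) : M) = 1 := by
    have h1 := pow_orderOf_eq_one z
    rw [hz, pow_two] at h1
    exact congrArg (fun t : center (pCore 2 M) => ((t : pCore 2 M) : M)) h1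
  have h4 : ((z : pCore 2 M) : M) ∈ Om M := by
    refine ⟨(z : pCore 2 M).2, fun y hy => ?_, hzz⟩
    exact (congrArg Subtype.val (mem_center_iff.1 z.2 ⟨y, hy⟩)).symm
  rw [e, mem_bot] at h4
  have h5 : z = 1 := Subtype.ext (Subtype.ext h4)
  rw [h5, orderOf_one] at hz
  omega

theorem exists_pow_mul {n a b : ℕ} (h : n ∣ 2 ^ a * 3 ^ b) : ∃ i j, n = 2 ^ i * 3 ^ j := by
  obtain ⟨x, y, hx, hy, rfl⟩ := (Nat.dvd_mul).1 h
  obtain ⟨i, _, rfl⟩ := (Nat.dvd_prime_pow Nat.prime_two).1 hx
  obtain ⟨j, _, rfl⟩ := (Nat.dvd_prime_pow Nat.prime_three).1 hy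
  exact ⟨i, j, rfl⟩

theorem solvable_of_dvd {M : Type*} [Group M] [Finite M] (h : Nat.card M ∣ 864) : Group.IsSolvable M := by
  obtain ⟨i, j, hij⟩ := exists_pow_mul (a := 5) (b := 3) (n := Nat.card M) h
  exact Cfsg.Agent.S0144.result 2 3 i j Nat.prime_two Nat.prime_three hij

end general

variable {N : Type*} [Group N] (h : U33 N)

include h

theorem U33.obj_seven (M : Subgroup N) (hM : pCore 7 M ≠ ⊥) :
    ∃ O ∈ Obj N, ∀ τ : MulAut N, M.map τ.toMonoidHom = M → O.map τ.toMonoidHom = O := by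
  have := h.finite
  refine ⟨(pCore 7 M).map M.subtype, ?_, fun τ hτ => char_map hτ _ (pCore_characteristic 7)⟩
  refine Or.inl (Or.inl (Or.inl (Or.inr ?_)))
  show Nat.card ((pCore 7 M).map M.subtype) = 7
  have h1 := h.card_dvd ((pCore 7 M).map M.subtype)
  rw [card_map_of_injective (subtype_injective M)] at h1 ⊢
  obtain ⟨k, hk⟩ := IsPGroup.iff_card.1 (pCore_isPGroup (G := M) 7)
  rw [hk] at h1 ⊢
  rcases k with _ | _ | k
  · exfalso
    apply hM
    rw [← card_eq_one, hk]
    rfl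
  · rfl
  · exfalso
    have h3 : 7 ^ 2 ∣ 6048 := (pow_dvd_pow 7 (by omega : 2 ≤ k + 1 + 1)).trans h1
    revert h3
    norm_num

theorem U33.obj_three (M : Subgroup N) (hM : pCore 3 M ≠ ⊥) :
    ∃ O ∈ Obj N, ∀ τ : MulAut N, M.map τ.toMonoidHom = M → O.map τ.toMonoidHom = O := by
  have := h.finite
  have := Fact.mk Nat.prime_three
  have hRp : IsPGroup 3 ((pCore 3 M).map M.subtype) := (pCore_isPGroup (G := M) 3).map _
  obtain ⟨S, hS⟩ := hRp.exists_le_sylow
  refine ⟨S, Or.inl (Or.inl (Or.inl (Or.inl ⟨S, rfl⟩))), fun τ hτ => ?_⟩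
  have h1 := char_map hτ _ (pCore_characteristic (G := M) 3)
  have hne : (pCore 3 M).map M.subtype ≠ ⊥ := by
    intro e
    rw [map_eq_bot_iff_of_injective _ (subtype_injective M)] at e
    exact hM e
  set R := (pCore 3 M).map M.subtype
  obtain ⟨x, hx, hx1⟩ : ∃ x ∈ R, x ≠ 1 := by
    by_contra hcon
    push Not at hcon
    exact hne ((eq_bot_iff_forall _).2 hcon)
  have hS2 : IsPGroup 3 ((S : Subgroup N).map τ.toMonoidHom) := S.isPGroup'.map _
  obtain ⟨T, hT⟩ := hS2.exists_le_sylow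
  have h2 : τ x ∈ R := by
    rw [← h1]
    exact ⟨x, hx, rfl⟩
  have h3 : S = T := h.ti S T (τ x) (by
    intro e
    exact hx1 ((map_eq_one_iff τ τ.injective).1 e)) (hS h2) (hT ⟨x, hS hx, rfl⟩)
  apply eq_of_le_of_card_ge
  · rw [h3] at hT ⊢
    exact hT
  · rw [card_map_of_injective (K := (S : Subgroup N)) (f := τ.toMonoidHom) τ.injective]

theorem U33.obj_two (M : Subgroup N) (hM : pCore 2 M ≠ ⊥) :
    ∃ O ∈ Obj N, ∀ τ : MulAut N, M.map τ.toMonoidHom = M → O.map τ.toMonoidHom = O := by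
  have := h.finite
  refine ⟨(Om M).map M.subtype, ?_, fun τ hτ => char_map hτ _ (Om_char M)⟩
  have h1 : ∀ v ∈ (Om M).map M.subtype, v * v = 1 := by
    rintro _ ⟨v, hv, rfl⟩
    exact congrArg Subtype.val hv.2.2
  have h2 := h.el _ h1
  have hp : IsPGroup 2 ((Om M).map M.subtype) := by
    intro v
    refine ⟨1, ?_⟩
    rw [pow_one, pow_two]
    exact Subtype.ext (h1 v v.2)
  obtain ⟨k, hk⟩ := IsPGroup.iff_card.1 hp
  have hne : (Om M).map M.subtype ≠ ⊥ := by
    intro e
    rw [map_eq_bot_iff_of_injective _ (subtype_injective M)] at e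
    exact Om_ne hM e
  have hk3 : k < 3 := by
    by_contra hcon
    have h3 : 2 ^ 3 ≤ 2 ^ k := Nat.pow_le_pow_right (by norm_num) (by omega)
    omega
  interval_cases k
  · exfalso
    apply hne
    rw [← card_eq_one, hk]
    rfl
  · refine Or.inl (Or.inl (Or.inr ?_))
    exact hk
  · refine Or.inl (Or.inr ⟨hk, h1⟩)

theorem U33.exists_obj (M : Subgroup N) (hM : M ≠ ⊥) (hM' : M ≠ ⊤) :
    ∃ O ∈ Obj N, ∀ τ : MulAut N, M.map τ.toMonoidHom = M → O.map τ.toMonoidHom = O := by
  have := h.finite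
  by_cases h2 : pCore 2 M ≠ ⊥
  · exact h.obj_two M h2
  by_cases h3 : pCore 3 M ≠ ⊥
  · exact h.obj_three M h3
  by_cases h7 : pCore 7 M ≠ ⊥
  · exact h.obj_seven M h7
  rw [not_not] at h2 h3 h7
  have hnt : Nontrivial M := (nontrivial_iff_ne_bot M).2 hM
  have hns : ¬ Group.IsSolvable M := by
    intro hs
    obtain ⟨r, hr, hne⟩ := Cfsg.Agent.H479.GoodEight.exists_pCore hs
    have := Fact.mk hr
    have h4 : r ∣ 6048 := by
      obtain ⟨k, hk⟩ := IsPGroup.iff_card.1 (pCore_isPGroup (G := M) r)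
      have h5 : Nat.card (pCore r M) ∣ 6048 := (card_subgroup_dvd_card _).trans (h.card_dvd M)
      refine dvd_trans ?_ h5
      rw [hk]
      apply dvd_pow_self
      rintro rfl
      apply hne
      rw [← card_eq_one, hk, pow_zero]
    have h5 : r = 2 ∨ r = 3 ∨ r = 7 := by
      have e : (6048 : ℕ) = 2 ^ 5 * 3 ^ 3 * 7 := by norm_num
      rw [e, hr.dvd_mul, hr.dvd_mul] at h4
      rcases h4 with (h4 | h4) | h4
      · left; exact (Nat.prime_dvd_prime_iff_eq hr Nat.prime_two).1 (hr.dvd_of_dvd_pow h4)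
      · right; left; exact (Nat.prime_dvd_prime_iff_eq hr Nat.prime_three).1 (hr.dvd_of_dvd_pow h4)
      · right; right; exact (Nat.prime_dvd_prime_iff_eq hr (by norm_num)).1 h4
    rcases h5 with rfl | rfl | rfl
    · exact hne h2
    · exact hne h3
    · exact hne h7
  have hd7 : 7 ∣ Nat.card M := by
    by_contra hcon
    apply hns
    apply solvable_of_dvd
    have h4 : (Nat.card M).Coprime 7 := ((Nat.Prime.coprime_iff_not_dvd (by norm_num : Nat.Prime 7)).2 hcon).symm
    exact h4.dvd_of_dvd_mul_right (show Nat.card M ∣ 864 * 7 from h.card_dvd M)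
  obtain ⟨S⟩ : Nonempty (Sylow 7 M) := inferInstance
  have hS7 : Nat.card (S : Subgroup M) = 7 := sylow_card_seven hd7 (h.card_dvd M) S
  have hidx : Nat.card (Sylow 7 M) = (normalizer ((S : Subgroup M) : Set M)).index := S.card_eq_index_normalizer
  -- the normaliser of `S` does not have order 7
  have hnorm : Nat.card (normalizer ((S : Subgroup M) : Set M)) ≠ 7 := by
    intro h4
    have h5 : (S : Subgroup M) = normalizer ((S : Subgroup M) : Set M) :=
      eq_of_le_of_card_ge le_normalizer (by rw [h4, hS7])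
    have hcyc : IsCyclic (S : Subgroup M) := isCyclic_of_prime_card (p := 7) hS7
    have h6 : normalizer ((S : Subgroup M) : Set M) ≤ centralizer ((S : Subgroup M) : Set M) := by
      rw [← h5]
      intro x hx
      rw [mem_centralizer_iff]
      intro y hy
      obtain ⟨g, hg⟩ := hcyc.exists_generator
      obtain ⟨i, hi⟩ := mem_zpowers_iff.1 (hg ⟨x, hx⟩)
      obtain ⟨j, hj⟩ := mem_zpowers_iff.1 (hg ⟨y, hy⟩)
      have h8 : (⟨y, hy⟩ : (S : Subgroup M)) * ⟨x, hx⟩ = ⟨x, hx⟩ * ⟨y, hy⟩ := by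
        rw [← hi, ← hj, ← zpow_add, ← zpow_add, add_comm]
      exact congrArg Subtype.val h8
    have h8 := (MonoidHom.ker_transferSylow_isComplement' S h6).card_mul_card
    rw [show Nat.card (S : Subgroup M) = 7 from hS7] at h8
    set K := (MonoidHom.transferSylow S h6).ker with hK
    have h9 : Group.IsSolvable K := by
      apply solvable_of_dvd
      have h10 := h.card_dvd M
      rw [← h8] at h10
      exact Nat.dvd_of_mul_dvd_mul_right (by norm_num : 0 < 7) (show Nat.card K * 7 ∣ 864 * 7 from h10)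
    apply hns
    have h10 : Group.IsSolvable (M ⧸ K) := by
      have h11 : Nat.card (M ⧸ K) = 7 := by
        have h12 := K.card_mul_index
        rw [← h8] at h12
        exact Nat.eq_of_mul_eq_mul_left Nat.card_pos h12
      have h12 : IsCyclic (M ⧸ K) := isCyclic_of_prime_card (p := 7) h11
      apply Group.isSolvable_of_comm
      intro a b
      obtain ⟨g, hg⟩ := h12.exists_generator
      obtain ⟨i, rfl⟩ := mem_zpowers_iff.1 (hg a)
      obtain ⟨j, rfl⟩ := mem_zpowers_iff.1 (hg b)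
      rw [← zpow_add, ← zpow_add, add_comm]
    exact (Group.isSolvable_iff_subgroup_quotient K).2 ⟨h9, h10⟩
  -- it has order 21
  obtain ⟨P, hP, hPM⟩ : {P : Subgroup N | Nat.card P = 7 ∧ P ≤ M}.Nonempty := by
    refine ⟨(S : Subgroup M).map M.subtype, ?_, map_subtype_le _⟩
    rw [card_map_of_injective (subtype_injective M)]
    exact hS7
  have h4 := h.norm_inf M P hP hPM
  have h5 : Nat.card (normalizer ((S : Subgroup M) : Set M)) =
      Nat.card (normalizer (P : Set N) ⊓ M : Subgroup N) := by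
    have h6 := (normalizer ((S : Subgroup M) : Set M)).index_mul_card
    rw [← hidx, ← h4] at h6
    exact Nat.eq_of_mul_eq_mul_left Nat.card_pos h6
  have h6 : Nat.card (normalizer (P : Set N) ⊓ M : Subgroup N) ∣ 21 := by
    rw [← h.card_norm P hP]
    exact card_dvd_of_le inf_le_left
  have h8 : 7 ∣ Nat.card (normalizer (P : Set N) ⊓ M : Subgroup N) := by
    rw [← hP]
    exact card_dvd_of_le (le_inf le_normalizer hPM)
  have h9 : Nat.card (normalizer (P : Set N) ⊓ M : Subgroup N) = 21 := by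
    obtain ⟨c, hc⟩ := h8
    rw [hc] at h6
    have h10 : c ∣ 3 := Nat.dvd_of_mul_dvd_mul_left (by norm_num : 0 < 7) (show 7 * c ∣ 7 * 3 from h6)
    rcases (Nat.dvd_prime Nat.prime_three).1 h10 with rfl | rfl
    · exfalso
      apply hnorm
      rw [h5, hc]
    · rw [hc]
  rw [h9] at h4
  rcases num_seven hd7 (h.card_dvd M) with h10 | h10 | h10 | h10
  · exfalso
    rw [h10] at hidx
    have h11 : normalizer ((S : Subgroup M) : Set M) = ⊤ := index_eq_one.1 hidx.symm
    have h12 : (S : Subgroup M).Normal := normalizer_eq_top_iff.1 h11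
    have h13 := le_pCore h12 S.isPGroup'
    rw [h7, le_bot_iff] at h13
    rw [h13, card_bot] at hS7
    omega
  · refine ⟨M, Or.inr ⟨?_, h10⟩, fun τ hτ => hτ⟩
    rw [h10] at h4
    omega
  · exfalso
    rw [h10] at h4
    apply h.no_index_eight M
    have h11 := M.card_mul_index
    rw [h.card, ← h4] at h11
    omega
  · exfalso
    rw [h10] at h4
    apply hM'
    apply eq_top_of_card_eq
    rw [h.card, ← h4]

end Cfsg.Agent.H119.EP
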