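import Cfsg.Agent.GTwoOdd.CentPSU
import Cfsg.Agent.H929.UThreeGeo

/-!
# Linear algebra for `SU₃(3)` (helper119, task 5949)
-/

set_option autoImplicit false
set_option linter.unusedSectionVars false

namespace Cfsg.Agent.H119.EP.Lin

open Matrix Cfsg Module
open Cfsg.Agent.LieClassical.HermBasic
open Cfsg.Agent.LieClassical.HermSiegel (mat mat_def act_def act_one act_mul act_smul act_add act_sub act_zero ext_act
  act_eq_zero herm_act act_inv_act)
open Cfsg.Agent.GTwoOdd.Core.HFiveB (emb negOne emb_negOne)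

/-- the action of `SU` on vectors -/
local notation "ac" => Cfsg.Agent.LieClassical.HermSiegel.act

variable {F : Type*} [Field F] [Fintype F] (hF : Fintype.card F = 3 ^ 2)

/-- the functional `h(·, u)` -/
def phi (u : Fin 3 → F) : (Fin 3 → F) →ₗ[F] F where
  toFun v := hermForm 3 F 3 v u
  map_add' a b := herm_add_left a b u
  map_smul' c a := herm_smul_left c a u

theorem phi_apply (u v : Fin 3 → F) : phi u v = hermForm 3 F 3 v u := rfl

/-- the fixed vectors -/
def fixS (g : SU 3 F 3) : Submodule F (Fin 3 → F) where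
  carrier := {v | ac g v = v}
  add_mem' := by
    intro a b ha hb
    show ac g (a + b) = a + b
    rw [act_add, ha, hb]
  zero_mem' := act_zero g
  smul_mem' := by
    intro c a ha
    show ac g (c • a) = c • a
    rw [act_smul, ha]

theorem mem_fixS {g : SU 3 F 3} {v : Fin 3 → F} : v ∈ fixS g ↔ ac g v = v := Iff.rfl

theorem card_le_mod {X : Type*} [Finite X] {p n : ℕ} [hp : Fact p.Prime] (f : X → X) (hf : f^[p ^ n] = id) :
    Nat.card X ≡ Nat.card {x // f x = x} [MOD p] := by
  classical
  have := Fintype.ofFinite X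
  have h1 := Equiv.Perm.card_fixedPoints_modEq (α := X) (f := f) (p := p) (n := n) (by
    have h2 : ∀ (f : Function.End X) (k : ℕ), f ^ k = (f : X → X)^[k] := by
      intro f k
      induction k with
      | zero => rfl
      | succ k ih => rw [pow_succ, ih]; rfl
    exact (h2 f (p ^ n)).trans hf)
  rw [Nat.card_eq_fintype_card, Nat.card_eq_fintype_card]
  exact h1

theorem act_pow (g : SU 3 F 3) (k : ℕ) (v : Fin 3 → F) : ac (g ^ k) v = (ac g)^[k] v := by
  induction k generalizing v with
  | zero => rw [pow_zero, act_one]; rfl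
  | succ k ih => rw [pow_succ, act_mul, ih, Function.iterate_succ, Function.comp_apply]

/-- the fixed points of a `p`-element on an invariant subspace -/
theorem fix_mod {p n : ℕ} [hp : Fact p.Prime] {g : SU 3 F 3} (hg : g ^ p ^ n = 1) (W : Submodule F (Fin 3 → F))
    (hW : ∀ w ∈ W, ac g w ∈ W) : Nat.card W ≡ Nat.card (W ⊓ fixS g : Submodule F (Fin 3 → F)) [MOD p] := by
  let f : W → W := fun w => ⟨ac g w, hW w w.2⟩
  have hfk : ∀ (k : ℕ) (w : W), ((f^[k] w : W) : Fin 3 → F) = (ac g)^[k] w := by
    intro k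
    induction k with
    | zero => intro w; rfl
    | succ k ih => intro w; rw [Function.iterate_succ, Function.comp_apply, ih, Function.iterate_succ,
        Function.comp_apply]
  have h1 := card_le_mod (p := p) (n := n) f (by
    funext w
    apply Subtype.ext
    rw [hfk, ← act_pow, hg, act_one]
    rfl)
  have h2 : Nat.card {x // f x = x} = Nat.card (W ⊓ fixS g : Submodule F (Fin 3 → F)) := by
    apply Nat.card_congr
    exact
      { toFun := fun x => ⟨x.1, x.1.2, congrArg Subtype.val x.2⟩
        invFun := fun x => ⟨⟨x.1, x.2.1⟩, Subtype.ext x.2.2⟩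
        left_inv := fun x => rfl
        right_inv := fun x => rfl }
  rw [← h2]
  exact h1

include hF

theorem card_sub (W : Submodule F (Fin 3 → F)) : Nat.card W = 9 ^ finrank F W := by
  rw [Module.natCard_eq_pow_finrank (K := F), Nat.card_eq_fintype_card, hF]
  norm_num

theorem pow_eight {l : F} (hl : l ≠ 0) : l ^ 8 = 1 := by
  have h1 := FiniteField.pow_card_sub_one_eq_one l hl
  rw [hF] at h1
  exact h1

theorem eq_one_of_pow_seven {l : F} (hl : l ^ 7 = 1) : l = 1 := by
  have h0 : l ≠ 0 := by
    rintro rfl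
    simp at hl
  have h1 := pow_eight hF h0
  rw [pow_succ, hl, one_mul] at h1
  exact h1

theorem eq_one_of_pow_three {l : F} {n : ℕ} (hl : l ^ 3 ^ n = 1) : l = 1 := by
  have h0 : l ≠ 0 := by
    rintro rfl
    rw [zero_pow (by positivity)] at hl
    exact zero_ne_one hl
  have h1 := pow_eight hF h0
  have h2 : orderOf l ∣ 3 ^ n := orderOf_dvd_of_pow_eq_one hl
  have h3 : orderOf l ∣ 8 := orderOf_dvd_of_pow_eq_one h1
  have h4 : (3 ^ n).Coprime 8 := Nat.Coprime.pow_left _ (by norm_num)
  have h5 : orderOf l = 1 := Nat.eq_one_of_dvd_coprimes h4 h2 h3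
  exact orderOf_eq_one_iff.1 h5

theorem two_ne : (2 : F) ≠ 0 := by
  intro h2
  have h3 : (3 : F) ^ 2 = 0 := by
    have h4 := FiniteField.cast_card_eq_zero F
    rw [hF] at h4
    exact_mod_cast h4
  have h5 : (1 : F) = 0 := by linear_combination h3 - 4 * h2
  exact one_ne_zero h5

theorem fix_eq_one {g : SU 3 F 3} (h : finrank F (fixS g) = 3) : g = 1 := by
  have h1 : fixS g = ⊤ := Submodule.eq_top_of_finrank_eq (by rw [h, Module.finrank_fin_fun])
  apply ext_act
  intro v
  rw [act_one]
  have h2 : v ∈ fixS g := by rw [h1]; trivial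
  exact h2

/-- elements of order 7 have no fixed vector -/
theorem seven_fix {g : SU 3 F 3} (hg : g ^ 7 = 1) (hg1 : g ≠ 1) {v : Fin 3 → F} (hv : ac g v = v) : v = 0 := by
  have := Fact.mk (show Nat.Prime 7 by norm_num)
  have h1 := fix_mod (p := 7) (n := 1) (g := g) (by rw [pow_one]; exact hg) ⊤ (fun w _ => trivial)
  rw [top_inf_eq, card_sub hF, card_sub hF, finrank_top, Module.finrank_fin_fun] at h1
  have h2 : finrank F (fixS g) ≤ 3 := by
    have := Submodule.finrank_le (fixS g)
    rwa [Module.finrank_fin_fun] at this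
  have h3 : finrank F (fixS g) ≠ 3 := fun e => hg1 (fix_eq_one hF e)
  have h4 : finrank F (fixS g) = 0 := by
    generalize finrank F (fixS g) = k at h1 h2 h3
    interval_cases k
    · rfl
    · exact absurd h1 (by decide)
    · exact absurd h1 (by decide)
    · exact absurd rfl h3
  rw [Submodule.finrank_eq_zero] at h4
  have h5 : v ∈ fixS g := hv
  rw [h4, Submodule.mem_bot] at h5
  exact h5

/-! ### involutions -/

theorem act_std (y : Fin 3 → F) : ac (emb hF (negOne (by decide : Odd 3) hF)) y =
    (2 * hermForm 3 F 3 y (Pi.single 0 1)) • (Pi.single 0 1 : Fin 3 → F) - y := by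
  have e1 : ac (emb hF (negOne (by decide : Odd 3) hF)) y = (emb hF (negOne (by decide : Odd 3) hF)).1.1 *ᵥ y := rfl
  rw [e1, emb_negOne, herm_single_right hF]
  funext i
  fin_cases i
  · simp [Matrix.mulVec, dotProduct, Fin.sum_univ_three]; ring
  · simp [Matrix.mulVec, dotProduct, Fin.sum_univ_three]
  · simp [Matrix.mulVec, dotProduct, Fin.sum_univ_three]

/-- the involutions of `SU_3(3)` are reflections (up to sign) -/
theorem exists_refl {h : SU 3 F 3} (hh : h * h = 1) (h1 : h ≠ 1) :
    ∃ u : Fin 3 → F, hermForm 3 F 3 u u = 1 ∧ ∀ y, ac h y = (2 * hermForm 3 F 3 y u) • u - y := by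
  obtain ⟨x, hx⟩ := Cfsg.Agent.GTwoOdd.CentPSU.exists_conj_SU hF (by decide) hh h1
  refine ⟨ac x (Pi.single 0 1), ?_, fun y => ?_⟩
  · rw [herm_act, herm_single_left]
    simp
  · rw [← hx, act_mul, act_mul, act_std hF]
    have h2 : hermForm 3 F 3 (ac x⁻¹ y) (Pi.single 0 1) = hermForm 3 F 3 y (ac x (Pi.single 0 1)) := by
      rw [← herm_act x, ← act_mul, mul_inv_cancel, act_one]
    rw [h2, act_sub, act_smul, ← act_mul, mul_inv_cancel, act_one]

/-- commuting distinct reflections are orthogonal -/
theorem orth {h k : SU 3 F 3} {u w : Fin 3 → F} (hu : hermForm 3 F 3 u u = 1) (hw : hermForm 3 F 3 w w = 1)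
    (hh : ∀ y, ac h y = (2 * hermForm 3 F 3 y u) • u - y) (hk : ∀ y, ac k y = (2 * hermForm 3 F 3 y w) • w - y)
    (hc : h * k = k * h) (hne : h ≠ k) : hermForm 3 F 3 u w = 0 := by
  by_contra h0
  apply hne
  have h2 := two_ne hF
  set c := hermForm 3 F 3 u w with hcdef
  -- apply both products to `u`
  have e1 : ac (h * k) u = (2 * c) • ((2 * hermForm 3 F 3 w u) • u - w) - u := by
    rw [act_mul, hk, act_sub, act_smul, hh w, hh u, hu, mul_one, two_smul F u, add_sub_cancel_right]
  have e2 : ac (k * h) u = (2 * c) • w - u := by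
    rw [act_mul, hh u, hu, mul_one, two_smul F u, add_sub_cancel_right, hk]
  rw [hc, e2] at e1
  have e3 : (2 * c) • w = (2 * c) • ((2 * hermForm 3 F 3 w u) • u - w) := by
    have := sub_left_inj.1 e1
    exact this
  have h2c : 2 * c ≠ 0 := mul_ne_zero h2 h0
  have e4 : w = (2 * hermForm 3 F 3 w u) • u - w := by
    have := congrArg (fun v => (2 * c)⁻¹ • v) e3
    simpa only [smul_smul, inv_mul_cancel₀ h2c, one_smul] using this
  have e5 : w = (hermForm 3 F 3 w u) • u := by
    have e6 : (2 : F) • w = (2 : F) • ((hermForm 3 F 3 w u) • u) := by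
      rw [two_smul]
      nth_rewrite 1 [e4]
      rw [sub_add_cancel, smul_smul]
    have := congrArg (fun v => (2 : F)⁻¹ • v) e6
    simpa only [smul_smul, inv_mul_cancel₀ h2, one_smul, ← mul_assoc, one_mul] using this
  set d := hermForm 3 F 3 w u with hd
  have hdd : d * d ^ 3 = 1 := by
    rw [e5, herm_smul_left, herm_smul_right, hu, mul_one] at hw
    exact hw
  apply ext_act
  intro y
  rw [hh, hk, e5, herm_smul_right, smul_smul]
  congr 2
  linear_combination (-2 * hermForm 3 F 3 y u) * hdd

end Cfsg.Agent.H119.EP.Lin
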