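import Cfsg.Agent.H119.EP.ULin
import Cfsg.Agent.H119.EP.UAbs
import Cfsg.Agent.ClassicalGeometry.UnitAutBasic

/-!
# Linear algebra for `SU₃(3)`, continued (helper119, task 5949)
-/

set_option autoImplicit false
set_option linter.unusedSectionVars false

namespace Cfsg.Agent.H119.EP.Lin

open Matrix Cfsg Module
open Cfsg.Agent.LieClassical.HermBasic
open Cfsg.Agent.LieClassical.HermSiegel (mat mat_def act_def act_one act_mul act_smul act_add act_sub act_zero ext_act
  act_eq_zero herm_act act_inv_act)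
open Cfsg.Agent.H929.U3 (Stab mem_Stab card_SU3 card_Stab eq_smul_of_orth exists_act)
open Cfsg.Agent.ClassicalGeometry.UnitAutBasic (pr pr_surjective exists_scalar_of_mem_center)

/-- the action of `SU` on vectors -/
local notation "ac" => Cfsg.Agent.LieClassical.HermSiegel.act

variable {F : Type*} [Field F] [Fintype F] (hF : Fintype.card F = 3 ^ 2)

include hF

theorem smul_refl {u w : Fin 3 → F} (hu : hermForm 3 F 3 u u = 1) (hw : hermForm 3 F 3 w w = 1) {l : F}
    (h : w = l • u) (y : Fin 3 → F) : (hermForm 3 F 3 y w) • w = (hermForm 3 F 3 y u) • u := by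
  have hdd : l * l ^ 3 = 1 := by
    rw [h, herm_smul_left, herm_smul_right, hu, mul_one] at hw
    exact hw
  rw [h, herm_smul_right, smul_smul]
  congr 1
  linear_combination (hermForm 3 F 3 y u) * hdd

/-- vectors fixed by a reflection -/
theorem fix_refl {z : SU 3 F 3} {u : Fin 3 → F} (hz : ∀ y, ac z y = (2 * hermForm 3 F 3 y u) • u - y) {y : Fin 3 → F}
    (hy : ac z y = y) : y = (hermForm 3 F 3 y u) • u := by
  have h2 := two_ne hF
  rw [hz, sub_eq_iff_eq_add, ← two_smul F y, mul_smul] at hy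
  exact (smul_right_injective _ h2 hy).symm

theorem refl_self {z : SU 3 F 3} {u : Fin 3 → F} (hu : hermForm 3 F 3 u u = 1)
    (hz : ∀ y, ac z y = (2 * hermForm 3 F 3 y u) • u - y) : ac z u = u := by
  rw [hz, hu, mul_one, two_smul, add_sub_cancel_right]

/-- an element commuting with a reflection -/
theorem eigen {z g : SU 3 F 3} {u : Fin 3 → F} (hu : hermForm 3 F 3 u u = 1)
    (hz : ∀ y, ac z y = (2 * hermForm 3 F 3 y u) • u - y) (hc : g * z = z * g) : ∃ l : F, ac g u = l • u := by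
  refine ⟨_, fix_refl hF hz (y := ac g u) ?_⟩
  rw [← act_mul, ← hc, act_mul, refl_self hF hu hz]

omit hF in
theorem eigen_pow {g : SU 3 F 3} {u : Fin 3 → F} {l : F} (h : ac g u = l • u) (k : ℕ) : ac (g ^ k) u = l ^ k • u := by
  induction k with
  | zero => rw [pow_zero, pow_zero, act_one, one_smul]
  | succ k ih => rw [pow_succ, act_mul, h, act_smul, ih, smul_smul, mul_comm, ← pow_succ]

omit hF in
theorem ne_zero_of_norm {u : Fin 3 → F} (hu : hermForm 3 F 3 u u = 1) : u ≠ 0 := by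
  rintro rfl
  rw [herm_zero_left] at hu
  exact zero_ne_one hu

omit hF in
theorem eigen_one {g : SU 3 F 3} {u : Fin 3 → F} (hu : u ≠ 0) {l : F} (h : ac g u = l • u) {k : ℕ} (hg : g ^ k = 1) :
    l ^ k = 1 := by
  have h1 := eigen_pow h k
  rw [hg, act_one] at h1
  have h2 : (l ^ k - 1) • u = 0 := by rw [sub_smul, one_smul, ← h1, sub_self]
  rcases smul_eq_zero.1 h2 with h3 | h3
  · exact sub_eq_zero.1 h3
  · exact absurd h3 hu

/-- no element of order 7 commutes with an involution -/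
theorem seven {g z : SU 3 F 3} (hg : g ^ 7 = 1) (hg1 : g ≠ 1) (hz : z * z = 1) (hc : g * z = z * g) : z = 1 := by
  by_contra hz1
  obtain ⟨u, hu, hzu⟩ := exists_refl hF hz hz1
  obtain ⟨l, hl⟩ := eigen hF hu hzu hc
  have hu0 := ne_zero_of_norm hu
  have h1 := eq_one_of_pow_seven hF (eigen_one hu0 hl hg)
  rw [h1, one_smul] at hl
  exact hu0 (seven_fix hF hg hg1 hl)

theorem finrank_ker_ge (u : Fin 3 → F) : 2 ≤ finrank F (LinearMap.ker (phi u)) := by
  have h1 := LinearMap.finrank_range_add_finrank_ker (phi u)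
  rw [Module.finrank_fin_fun] at h1
  have h2 : finrank F (LinearMap.range (phi u)) ≤ 1 := by
    have := Submodule.finrank_le (LinearMap.range (phi u))
    rwa [Module.finrank_self] at this
  omega

theorem finrank_ker_eq {u : Fin 3 → F} (hu : hermForm 3 F 3 u u ≠ 0) : finrank F (LinearMap.ker (phi u)) = 2 := by
  have h1 := LinearMap.finrank_range_add_finrank_ker (phi u)
  rw [Module.finrank_fin_fun] at h1
  have h2 := finrank_ker_ge hF u
  have h3 : finrank F (LinearMap.range (phi u)) ≠ 0 := by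
    intro e
    rw [Submodule.finrank_eq_zero] at e
    have h4 : phi u u ∈ LinearMap.range (phi u) := ⟨u, rfl⟩
    rw [e, Submodule.mem_bot] at h4
    exact hu h4
  omega

/-- a `3`-element on an invariant subspace -/
theorem exists_fix {n : ℕ} {g : SU 3 F 3} (hg : g ^ 3 ^ n = 1) (W : Submodule F (Fin 3 → F)) (hW0 : 1 ≤ finrank F W)
    (hW : ∀ w ∈ W, ac g w ∈ W) : ∃ w ∈ W, w ≠ 0 ∧ ac g w = w := by
  have := Fact.mk Nat.prime_three
  have h1 := fix_mod hg W hW
  rw [card_sub hF, card_sub hF] at h1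
  have h2 : W ⊓ fixS g ≠ ⊥ := by
    intro e
    rw [e, finrank_bot, pow_zero] at h1
    have h3 : 3 ∣ 9 ^ finrank F W := dvd_trans (by norm_num : 3 ∣ 9) (dvd_pow_self 9 (by omega))
    have h4 : 9 ^ finrank F W % 3 = 1 := h1
    omega
  obtain ⟨w, hw, hw0⟩ := Submodule.exists_mem_ne_zero_of_ne_bot h2
  exact ⟨w, hw.1, hw0, hw.2⟩

/-- the fixed space of an element of order 3 commuting with an involution -/
theorem fix_ge_two {c z : SU 3 F 3} (hc3 : c ^ 3 = 1) (hz : z * z = 1) (hz1 : z ≠ 1) (hc : c * z = z * c) :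
    2 ≤ finrank F (fixS c) := by
  obtain ⟨u, hu, hzu⟩ := exists_refl hF hz hz1
  obtain ⟨l, hl⟩ := eigen hF hu hzu hc
  have hu0 := ne_zero_of_norm hu
  have h1 : l = 1 := eq_one_of_pow_three hF (n := 1) (by rw [pow_one]; exact eigen_one hu0 hl hc3)
  rw [h1, one_smul] at hl
  obtain ⟨w, hw, hw0, hcw⟩ := exists_fix hF (n := 1) (g := c) (by rw [pow_one]; exact hc3) (LinearMap.ker (phi u))
    (by have := finrank_ker_ge hF u; omega) (by
      intro w hw
      rw [LinearMap.mem_ker, phi_apply] at hw ⊢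
      rw [← hl, herm_act]
      exact hw)
  have hli : LinearIndependent F ![u, w] := by
    rw [LinearIndependent.pair_iff]
    intro s t hst
    rw [LinearMap.mem_ker, phi_apply] at hw
    have h3 : hermForm 3 F 3 (s • u + t • w) u = 0 := by rw [hst, herm_zero_left]
    rw [herm_add_left, herm_smul_left, herm_smul_left, hu, hw, mul_one, mul_zero, add_zero] at h3
    refine ⟨h3, ?_⟩
    rw [h3, zero_smul, zero_add] at hst
    rcases smul_eq_zero.1 hst with h4 | h4
    · exact h4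
    · exact absurd h4 hw0
  have h2 : Submodule.span F (Set.range ![u, w]) ≤ fixS c := by
    rw [Submodule.span_le]
    rintro _ ⟨i, rfl⟩
    fin_cases i
    · exact hl
    · exact hcw
  have h3 := Submodule.finrank_mono h2
  rw [finrank_span_eq_card hli] at h3
  exact h3

theorem three {g c z : SU 3 F 3} (hg : g ^ 7 = 1) (hg1 : g ≠ 1) (hc3 : c ^ 3 = 1) (hc1 : c ≠ 1)
    (hcg : c * g * c⁻¹ ∈ Subgroup.zpowers g) (hz : z * z = 1) (hc : c * z = z * c) : z = 1 := by
  by_contra hz1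
  have hE := fix_ge_two hF hc3 hz hz1 hc
  have hE3 : finrank F (fixS c) ≠ 3 := fun e => hc1 (fix_eq_one hF e)
  have hEle : finrank F (fixS c) ≤ 3 := by
    have := Submodule.finrank_le (fixS c)
    rwa [Module.finrank_fin_fun] at this
  -- `g` has the image of the fixed space of `c`
  let E' : Submodule F (Fin 3 → F) := fixS (g * c * g⁻¹)
  have hE' : 2 ≤ finrank F E' := by
    have h1 : 2 ≤ finrank F (fixS (g * c * g⁻¹)) := by
      apply fix_ge_two hF (c := g * c * g⁻¹) (z := g * z * g⁻¹)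
      · rw [conj_pow, hc3, mul_one, mul_inv_cancel]
      · calc g * z * g⁻¹ * (g * z * g⁻¹) = g * (z * z) * g⁻¹ := by group
          _ = 1 := by rw [hz, mul_one, mul_inv_cancel]
      · intro e
        apply hz1
        rw [mul_inv_eq_one] at e
        exact mul_eq_left.1 e
      · calc g * c * g⁻¹ * (g * z * g⁻¹) = g * (c * z) * g⁻¹ := by group
          _ = g * (z * c) * g⁻¹ := by rw [hc]
          _ = g * z * g⁻¹ * (g * c * g⁻¹) := by group
    exact h1
  have h1 := Submodule.finrank_sup_add_finrank_inf_eq (fixS c) E'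
  have h2 : finrank F (fixS c ⊔ E' : Submodule F (Fin 3 → F)) ≤ 3 := by
    have := Submodule.finrank_le (fixS c ⊔ E')
    rwa [Module.finrank_fin_fun] at this
  have h3 : fixS c ⊓ E' ≠ ⊥ := by
    intro e
    rw [e, finrank_bot] at h1
    omega
  obtain ⟨x, hx, hx0⟩ := Submodule.exists_mem_ne_zero_of_ne_bot h3
  -- `t = g c g⁻¹ c⁻¹` fixes `x`
  have hcx : ac c x = x := hx.1
  have hcx' : ac c⁻¹ x = x := by
    conv_lhs => rw [← hcx, act_inv_act]
  have htx : ac (g * c * g⁻¹ * c⁻¹) x = x := by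
    rw [act_mul, hcx']
    exact hx.2
  have ht : g * c * g⁻¹ * c⁻¹ ∈ Subgroup.zpowers g := by
    have e : g * c * g⁻¹ * c⁻¹ = g * (c * g * c⁻¹)⁻¹ := by group
    rw [e]
    exact mul_mem (Subgroup.mem_zpowers g) (inv_mem hcg)
  have ht7 : (g * c * g⁻¹ * c⁻¹) ^ 7 = 1 := by
    obtain ⟨k, hk⟩ := Subgroup.mem_zpowers_iff.1 ht
    rw [← hk, ← zpow_natCast, ← _root_.zpow_mul, mul_comm, _root_.zpow_mul, zpow_natCast, hg, _root_.one_zpow]
  have ht1 : g * c * g⁻¹ * c⁻¹ = 1 := by
    by_contra hne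
    exact hx0 (seven_fix hF ht7 hne htx)
  have hcomm : g * c = c * g := by
    rw [mul_inv_eq_one, mul_inv_eq_iff_eq_mul] at ht1
    exact ht1
  -- `g` acts on the fixed space of `c` without fixed vectors
  have := Fact.mk (show Nat.Prime 7 by norm_num)
  have h4 := fix_mod (p := 7) (n := 1) (g := g) (by rw [pow_one]; exact hg) (fixS c) (by
    intro w hw
    show ac c (ac g w) = ac g w
    rw [← act_mul, ← hcomm, act_mul, show ac c w = w from hw])
  have h5 : fixS c ⊓ fixS g = ⊥ := by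
    rw [Submodule.eq_bot_iff]
    intro v hv
    exact seven_fix hF hg hg1 hv.2
  rw [h5, card_sub hF, card_sub hF, finrank_bot] at h4
  have h6 : finrank F (fixS c) = 2 := by omega
  rw [h6] at h4
  revert h4
  decide

/-! ### counting -/

theorem count8 {α : Type*} [Finite α] (S : Set α) (f : α → (Fin 3 → F)) (T : Set (Fin 3 → F))
    (h0 : ∀ a ∈ S, f a ≠ 0) (h1 : ∀ a ∈ S, ∀ l : F, l ≠ 0 → l • f a ∈ T)
    (h2 : ∀ a ∈ S, ∀ b ∈ S, ∀ l : F, l ≠ 0 → f b = l • f a → a = b) : S.ncard * 8 ≤ T.ncard := by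
  apply double S T (fun a v => ∃ l : F, l ≠ 0 ∧ v = l • f a) 8
  · intro a ha
    have h3 : (fun l : F => l • f a) '' {l | l ≠ 0} ⊆ {b | b ∈ T ∧ ∃ l : F, l ≠ 0 ∧ b = l • f a} := by
      rintro _ ⟨l, hl, rfl⟩
      exact ⟨h1 a ha l hl, l, hl, rfl⟩
    refine le_trans ?_ (Set.ncard_le_ncard h3 (Set.toFinite _))
    rw [Set.ncard_image_of_injective _ (smul_left_injective F (h0 a ha))]
    have h4 : ({l : F | l ≠ 0} : Set F) = {0}ᶜ := rfl
    have h5 := Set.ncard_add_ncard_compl ({0} : Set F) (Set.toFinite _) (Set.toFinite _)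
    rw [Set.ncard_singleton, Nat.card_eq_fintype_card, hF] at h5
    rw [h4]
    omega
  · rintro b hb a ha a' ha' ⟨l, hl, e⟩ ⟨l', hl', e'⟩
    apply h2 a ha a' ha' (l'⁻¹ * l) (mul_ne_zero (inv_ne_zero hl') hl)
    rw [mul_smul, ← e, e', smul_smul, inv_mul_cancel₀ hl', one_smul]

theorem card_V : Nat.card (Fin 3 → F) = 729 := by
  rw [Nat.card_eq_fintype_card, Fintype.card_fun, Fintype.card_fin, hF]
  norm_num

theorem card_iso : {v : Fin 3 → F | hermForm 3 F 3 v v = 0}.ncard = 225 := by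
  have h5 := Cfsg.Agent.LieClassical.HermCount.card_isotropic hF 3
  rw [if_neg (by decide)] at h5
  norm_num at h5
  exact h5

theorem inv_le : {z : SU 3 F 3 | z * z = 1 ∧ z ≠ 1}.ncard ≤ 63 := by
  have key : ∀ z : SU 3 F 3, z * z = 1 ∧ z ≠ 1 →
      ∃ u : Fin 3 → F, hermForm 3 F 3 u u = 1 ∧ ∀ y, ac z y = (2 * hermForm 3 F 3 y u) • u - y :=
    fun z hz => exists_refl hF hz.1 hz.2
  choose! f hf using key
  have h1 := count8 hF {z : SU 3 F 3 | z * z = 1 ∧ z ≠ 1} f {v | hermForm 3 F 3 v v = 0}ᶜ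
    (fun z hz => ne_zero_of_norm (hf z hz).1) (by
      intro z hz l hl
      show ¬ hermForm 3 F 3 (l • f z) (l • f z) = 0
      rw [herm_smul_left, herm_smul_right, (hf z hz).1, mul_one]
      exact mul_ne_zero hl (pow_ne_zero _ hl)) (by
      intro z hz w hw l hl e
      apply ext_act
      intro y
      rw [(hf z hz).2, (hf w hw).2, mul_smul, mul_smul, smul_refl hF (hf z hz).1 (hf w hw).1 e])
  have h2 := Set.ncard_add_ncard_compl {v : Fin 3 → F | hermForm 3 F 3 v v = 0} (Set.toFinite _) (Set.toFinite _)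
  rw [card_iso hF, card_V hF] at h2
  omega

theorem comm_le (z : SU 3 F 3) (hz : z * z = 1) (hz1 : z ≠ 1) :
    {w : SU 3 F 3 | w * w = 1 ∧ w ≠ 1 ∧ w ≠ z ∧ w * z = z * w}.ncard ≤ 10 := by
  obtain ⟨u, hu, hzu⟩ := exists_refl hF hz hz1
  have key : ∀ z : SU 3 F 3, z * z = 1 ∧ z ≠ 1 →
      ∃ u : Fin 3 → F, hermForm 3 F 3 u u = 1 ∧ ∀ y, ac z y = (2 * hermForm 3 F 3 y u) • u - y :=
    fun z hz => exists_refl hF hz.1 hz.2
  choose! f hf using key
  have h1 := count8 hF {w : SU 3 F 3 | w * w = 1 ∧ w ≠ 1 ∧ w ≠ z ∧ w * z = z * w} f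
    ((LinearMap.ker (phi u) : Set (Fin 3 → F)) \ {0})
    (fun w hw => ne_zero_of_norm (hf w ⟨hw.1, hw.2.1⟩).1) (by
      intro w hw l hl
      refine ⟨?_, smul_ne_zero hl (ne_zero_of_norm (hf w ⟨hw.1, hw.2.1⟩).1)⟩
      rw [SetLike.mem_coe, LinearMap.mem_ker, phi_apply, herm_smul_left,
        orth hF (hf w ⟨hw.1, hw.2.1⟩).1 hu (hf w ⟨hw.1, hw.2.1⟩).2 hzu hw.2.2.2 hw.2.2.1, mul_zero]) (by
      intro z hz w hw l hl e
      have hz' := hf z ⟨hz.1, hz.2.1⟩
      have hw' := hf w ⟨hw.1, hw.2.1⟩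
      apply ext_act
      intro y
      rw [hz'.2, hw'.2, mul_smul, mul_smul, smul_refl hF hz'.1 hw'.1 e])
  have h2 : (LinearMap.ker (phi u) : Set (Fin 3 → F)).ncard = 81 := by
    have h3 := card_sub hF (LinearMap.ker (phi u))
    rw [finrank_ker_eq hF (by rw [hu]; exact one_ne_zero)] at h3
    exact h3
  have h3 := Set.ncard_sdiff_singleton_add_one (s := (LinearMap.ker (phi u) : Set (Fin 3 → F))) (a := 0)
    (Submodule.zero_mem _) (Set.toFinite _)
  omega

theorem el (V : Subgroup (SU 3 F 3)) (hV : ∀ v ∈ V, v * v = 1) : Nat.card V ≤ 4 := by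
  classical
  have key : ∀ z : SU 3 F 3, z * z = 1 ∧ z ≠ 1 →
      ∃ u : Fin 3 → F, hermForm 3 F 3 u u = 1 ∧ ∀ y, ac z y = (2 * hermForm 3 F 3 y u) • u - y :=
    fun z hz => exists_refl hF hz.1 hz.2
  choose! f hf using key
  let S : Set (SU 3 F 3) := (V : Set (SU 3 F 3)) \ {1}
  have hS : ∀ s ∈ S, s * s = 1 ∧ s ≠ 1 := fun s hs => ⟨hV s hs.1, hs.2⟩
  have hcomm : ∀ s ∈ S, ∀ t ∈ S, s * t = t * s := by
    intro s hs t ht
    have h8 := hV _ (V.mul_mem hs.1 ht.1)
    have e1 : s * t = (s * t)⁻¹ := by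
      rw [eq_inv_iff_mul_eq_one]; exact h8
    have e2 : s⁻¹ = s := (eq_inv_of_mul_eq_one_left (hS s hs).1).symm
    have e3 : t⁻¹ = t := (eq_inv_of_mul_eq_one_left (hS t ht).1).symm
    rw [e1, _root_.mul_inv_rev, e2, e3]
  have := Fintype.ofFinite S
  have hli : LinearIndependent F (fun s : S => f s) := by
    rw [Fintype.linearIndependent_iff]
    intro c hc s
    have h1 : hermForm 3 F 3 (∑ i, c i • f i) (f s) = 0 := by rw [hc, herm_zero_left]
    rw [herm_sum_left, Finset.sum_eq_single s] at h1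
    · rw [herm_smul_left, (hf s (hS s s.2)).1, mul_one] at h1
      exact h1
    · intro t _ hts
      rw [herm_smul_left, orth hF (hf t (hS t t.2)).1 (hf s (hS s s.2)).1 (hf t (hS t t.2)).2 (hf s (hS s s.2)).2
        (hcomm t t.2 s s.2) (fun e => hts (Subtype.ext e)), mul_zero]
    · intro h2
      exact absurd (Finset.mem_univ _) h2
  have h1 := hli.fintype_card_le_finrank
  rw [Module.finrank_fin_fun] at h1
  have h2 : S.ncard ≤ 3 := by
    rw [← Nat.card_coe_set_eq, Nat.card_eq_fintype_card]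
    exact h1
  have h3 := Set.ncard_sdiff_singleton_add_one (s := (V : Set (SU 3 F 3))) (a := 1) (one_mem V) (Set.toFinite _)
  have h4 : (V : Set (SU 3 F 3)).ncard ≤ 4 := by
    have h5 : S.ncard = ((V : Set (SU 3 F 3)) \ {1}).ncard := rfl
    omega
  exact h4

end Cfsg.Agent.H119.EP.Lin
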