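import Cfsg.Agent.H119.EP.ULin2
import Cfsg.Agent.S0283
import Cfsg.Agent.S0815

/-!
# `U₃(3)` (helper119, task 5949)
-/

set_option autoImplicit false
set_option linter.unusedSectionVars false

namespace Cfsg.Agent.H119.EP

theorem U33.of_equiv {N M : Type*} [Group N] [Group M] (e : N ≃* M) (h : U33 M) : U33 N := by
  have hM := h.finite
  have hN : Finite N := Finite.of_equiv M e.symm.toEquiv
  refine ⟨?_, ?_, ?_, ?_, ?_, ?_, ?_, ?_, ?_⟩
  · rw [Nat.card_congr e.toEquiv, h.card]
  · have := h.simple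
    exact e.isSimpleGroup
  · refine le_trans (Set.ncard_le_ncard_of_injOn e ?_ e.injective.injOn (Set.toFinite _)) h.inv_le
    rintro z ⟨h1, h2⟩
    refine ⟨by rw [← map_mul, h1, map_one], fun e1 => h2 ?_⟩
    exact (map_eq_one_iff e e.injective).1 e1
  · intro z hz hz1
    refine le_trans (Set.ncard_le_ncard_of_injOn e ?_ e.injective.injOn (Set.toFinite _))
      (h.comm_le (e z) (by rw [← map_mul, hz, map_one]) (fun e1 => hz1 ((map_eq_one_iff e e.injective).1 e1)))
    rintro w ⟨h1, h2, h3, h4⟩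
    refine ⟨by rw [← map_mul, h1, map_one], fun e1 => h2 ?_, fun e1 => h3 (e.injective e1), by
      rw [← map_mul, h4, map_mul]⟩
    exact (map_eq_one_iff e e.injective).1 e1
  · intro V hV
    have h1 := h.el (V.map e.toMonoidHom) (by
      rintro _ ⟨v, hv, rfl⟩
      show e v * e v = 1
      rw [← map_mul, hV v hv, map_one])
    rwa [Subgroup.card_map_of_injective (K := V) (f := e.toMonoidHom) e.injective] at h1
  · intro g z hg hg1 hz hc
    have h1 := h.seven (e g) (e z) (by rw [← map_pow, hg, map_one])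
      (fun e1 => hg1 ((map_eq_one_iff e e.injective).1 e1)) (by rw [← map_mul, hz, map_one])
      (by rw [← map_mul, hc, map_mul])
    exact (map_eq_one_iff e e.injective).1 h1
  · intro g c z hg hg1 hc3 hc1 hcg hz hc
    have h1 := h.three (e g) (e c) (e z) (by rw [← map_pow, hg, map_one])
      (fun e1 => hg1 ((map_eq_one_iff e e.injective).1 e1)) (by rw [← map_pow, hc3, map_one])
      (fun e1 => hc1 ((map_eq_one_iff e e.injective).1 e1)) (by
        obtain ⟨k, hk⟩ := Subgroup.mem_zpowers_iff.1 hcg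
        rw [← map_inv, ← map_mul, ← map_mul, ← hk, map_zpow]
        exact Subgroup.mem_zpowers_iff.2 ⟨k, rfl⟩)
      (by rw [← map_mul, hz, map_one]) (by rw [← map_mul, hc, map_mul])
    exact (map_eq_one_iff e e.injective).1 h1
  · intro P Q x hx hP hQ
    have := Fact.mk Nat.prime_three
    have h1 := h.ti (P.mapSurjective (f := e.toMonoidHom) e.surjective)
      (Q.mapSurjective (f := e.toMonoidHom) e.surjective) (e x)
      (fun e1 => hx ((map_eq_one_iff e e.injective).1 e1)) ⟨x, hP, rfl⟩ ⟨x, hQ, rfl⟩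
    have h2 := congrArg (fun S : Sylow 3 M => (S : Subgroup M)) h1
    exact Sylow.ext (Subgroup.map_injective (f := e.toMonoidHom) e.injective h2)
  · have := Fact.mk Nat.prime_three
    refine le_trans (Nat.card_le_card_of_injective
      (fun P : Sylow 3 N => P.mapSurjective (f := e.toMonoidHom) e.surjective) ?_) h.syl
    intro P Q h1
    have h2 := congrArg (fun S : Sylow 3 M => (S : Subgroup M)) h1
    exact Sylow.ext (Subgroup.map_injective (f := e.toMonoidHom) e.injective h2)

namespace Lin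

open Matrix Cfsg Module
open scoped Pointwise
open Cfsg.Agent.LieClassical.HermBasic
open Cfsg.Agent.LieClassical.HermSiegel (mat mat_def act_def act_one act_mul act_smul act_add act_sub act_zero ext_act
  act_eq_zero herm_act act_inv_act)
open Cfsg.Agent.H929.U3 (Stab mem_Stab card_SU3 card_Stab eq_smul_of_orth exists_act)
open Cfsg.Agent.ClassicalGeometry.UnitAutBasic (pr pr_surjective exists_scalar_of_mem_center)

/-- the action of `SU` on vectors -/
local notation "ac" => Cfsg.Agent.LieClassical.HermSiegel.act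

variable {F : Type*} [Field F] [Fintype F] (hF : Fintype.card F = 3 ^ 2)

include hF

theorem card_su : Nat.card (SU 3 F 3) = 6048 := by
  rw [card_SU3 hF]
  norm_num

theorem exists_stab (S : Sylow 3 (SU 3 F 3)) :
    ∃ e : Fin 3 → F, hermForm 3 F 3 e e = 0 ∧ e ≠ 0 ∧ (S : Subgroup (SU 3 F 3)) = Stab 3 e := by
  have := Fact.mk Nat.prime_three
  obtain ⟨e, he, he0⟩ : ∃ e : Fin 3 → F, hermForm 3 F 3 e e = 0 ∧ e ≠ 0 := by
    have h1 := card_iso hF
    by_contra hcon
    push Not at hcon
    have h2 : {v : Fin 3 → F | hermForm 3 F 3 v v = 0} ⊆ {0} := fun v hv => hcon v hv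
    have h3 := Set.ncard_le_ncard h2 (Set.toFinite _)
    rw [h1, Set.ncard_singleton] at h3
    omega
  have hcard : Nat.card (Stab 3 e) = 3 ^ (Nat.card (SU 3 F 3)).factorization 3 := by
    rw [card_Stab hF he he0, card_su hF]
    congr 1
    have h1 : (6048 : ℕ) = 3 ^ 3 * 224 := by norm_num
    rw [h1, Nat.factorization_mul (by norm_num) (by norm_num), Nat.Prime.factorization_pow Nat.prime_three]
    rw [Finsupp.add_apply, Finsupp.single_eq_same, Nat.factorization_eq_zero_of_not_dvd (by norm_num)]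
  obtain ⟨g, hg⟩ := MulAction.exists_smul_eq (SU 3 F 3) (Sylow.ofCard (Stab 3 e) hcard) S
  refine ⟨ac g e, by rw [herm_act, he], by rw [Ne, act_eq_zero]; exact he0, ?_⟩
  have h1 : (S : Subgroup (SU 3 F 3)) = MulAut.conj g • (Stab 3 e) := by rw [← hg]; rfl
  rw [h1]
  ext x
  rw [Subgroup.mem_pointwise_smul_iff_inv_smul_mem, mem_Stab, mem_Stab, ← map_inv, MulAut.smul_def, MulAut.conj_apply,
    inv_inv, act_mul, act_mul]
  constructor
  · intro h2
    have h3 := congrArg (ac g) h2
    rw [← act_mul g g⁻¹, mul_inv_cancel, act_one] at h3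
    exact h3
  · intro h2
    rw [h2, act_inv_act]

theorem stab_smul {e : Fin 3 → F} {l : F} (hl : l ≠ 0) : Stab 3 (l • e) = Stab (E := F) 3 e := by
  ext x
  rw [mem_Stab, mem_Stab, act_smul]
  exact (smul_right_injective _ hl).eq_iff

theorem syl : Nat.card (Sylow 3 (SU 3 F 3)) ≤ 28 := by
  choose f h1 h2 h3 using exists_stab hF
  have h4 := count8 hF (Set.univ : Set (Sylow 3 (SU 3 F 3))) f ({v : Fin 3 → F | hermForm 3 F 3 v v = 0} \ {0})
    (fun S _ => h2 S) (by
      intro S _ l hl
      refine ⟨?_, smul_ne_zero hl (h2 S)⟩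
      show hermForm 3 F 3 (l • f S) (l • f S) = 0
      rw [herm_smul_left, herm_smul_right, h1, mul_zero, mul_zero]) (by
      intro S _ T _ l hl e
      apply Sylow.ext
      rw [h3 S, h3 T, e, stab_smul hF hl])
  have h5 := Set.ncard_sdiff_singleton_add_one (s := {v : Fin 3 → F | hermForm 3 F 3 v v = 0}) (a := 0)
    (herm_zero_left _) (Set.toFinite _)
  rw [card_iso hF] at h5
  rw [Set.ncard_univ] at h4
  omega

theorem ti (P Q : Sylow 3 (SU 3 F 3)) (x : SU 3 F 3) (hx : x ≠ 1) (hP : x ∈ (P : Subgroup (SU 3 F 3)))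
    (hQ : x ∈ (Q : Subgroup (SU 3 F 3))) : P = Q := by
  obtain ⟨e, he, he0, hPe⟩ := exists_stab hF P
  obtain ⟨e', he', he0', hQe⟩ := exists_stab hF Q
  by_contra hne
  have h0 : hermForm 3 F 3 e' e ≠ 0 := by
    intro h1
    obtain ⟨t, rfl⟩ := eq_smul_of_orth hF he he0 he' h1
    have ht : t ≠ 0 := by
      rintro rfl
      exact he0' (zero_smul _ _)
    apply hne
    apply Sylow.ext
    rw [hPe, hQe, stab_smul hF ht]
  have h0' : hermForm 3 F 3 e e' ≠ 0 := fun h1 => h0 (herm_eq_zero_swap hF h1)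
  rw [hPe, mem_Stab] at hP
  rw [hQe, mem_Stab] at hQ
  have hx27 : x ^ 3 ^ 3 = 1 := by
    have h1 : (⟨x, hP⟩ : Stab 3 e) ^ Nat.card (Stab 3 e) = 1 := pow_card_eq_one'
    rw [card_Stab hF he he0] at h1
    exact congrArg Subtype.val h1
  have h1 := Submodule.finrank_sup_add_finrank_inf_eq (LinearMap.ker (phi e)) (LinearMap.ker (phi e'))
  have h2 : finrank F (LinearMap.ker (phi e) ⊔ LinearMap.ker (phi e') : Submodule F (Fin 3 → F)) ≤ 3 := by
    have := Submodule.finrank_le (LinearMap.ker (phi e) ⊔ LinearMap.ker (phi e'))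
    rwa [Module.finrank_fin_fun] at this
  have h3 := finrank_ker_ge hF e
  have h4 := finrank_ker_ge hF e'
  obtain ⟨w, hw, hw0, hxw⟩ := exists_fix hF hx27 (LinearMap.ker (phi e) ⊓ LinearMap.ker (phi e')) (by omega) (by
    rintro w ⟨hw1, hw2⟩
    rw [SetLike.mem_coe, LinearMap.mem_ker, phi_apply] at hw1 hw2
    refine ⟨?_, ?_⟩
    · rw [SetLike.mem_coe, LinearMap.mem_ker, phi_apply, ← hP, herm_act]
      exact hw1
    · rw [SetLike.mem_coe, LinearMap.mem_ker, phi_apply, ← hQ, herm_act]
      exact hw2)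
  obtain ⟨hw1, hw2⟩ := hw
  rw [SetLike.mem_coe, LinearMap.mem_ker, phi_apply] at hw1 hw2
  have hli : LinearIndependent F ![e, e', w] := by
    rw [Fintype.linearIndependent_iff]
    intro c hc
    rw [Fin.sum_univ_three] at hc
    simp only [Matrix.cons_val_zero, Matrix.cons_val_one, Matrix.cons_val_two, Matrix.head_cons,
      Matrix.tail_cons] at hc
    have h5 : hermForm 3 F 3 (c 0 • e + c 1 • e' + c 2 • w) e = 0 := by rw [hc, herm_zero_left]
    have h6 : hermForm 3 F 3 (c 0 • e + c 1 • e' + c 2 • w) e' = 0 := by rw [hc, herm_zero_left]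
    rw [herm_add_left, herm_add_left, herm_smul_left, herm_smul_left, herm_smul_left, he, hw1, mul_zero, mul_zero,
      zero_add, add_zero] at h5
    rw [herm_add_left, herm_add_left, herm_smul_left, herm_smul_left, herm_smul_left, he', hw2, mul_zero, mul_zero,
      add_zero, add_zero] at h6
    have h7 : c 1 = 0 := (mul_eq_zero.1 h5).resolve_right h0
    have h8 : c 0 = 0 := (mul_eq_zero.1 h6).resolve_right h0'
    rw [h7, h8, zero_smul, zero_smul, zero_add, zero_add] at hc
    have h9 : c 2 = 0 := (smul_eq_zero.1 hc).resolve_right hw0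
    intro i
    fin_cases i
    · exact h8
    · exact h7
    · exact h9
  have h5 : Submodule.span F (Set.range ![e, e', w]) ≤ fixS x := by
    rw [Submodule.span_le]
    rintro _ ⟨i, rfl⟩
    fin_cases i
    · exact hP
    · exact hQ
    · exact hxw
  have h6 := Submodule.finrank_mono h5
  rw [finrank_span_eq_card hli, Fintype.card_fin] at h6
  have h7 := Submodule.finrank_le (fixS x)
  rw [Module.finrank_fin_fun] at h7
  exact hx (fix_eq_one hF (le_antisymm h7 h6))

theorem pr_inj : Function.Injective (pr 3 F 3) := by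
  rw [injective_iff_map_eq_one]
  intro g hg
  have h1 : g ∈ Subgroup.center (SU 3 F 3) := (QuotientGroup.eq_one_iff _).1 hg
  obtain ⟨c, h2, h3, h4⟩ := (Cfsg.Agent.LieClassical.SUBasic.mem_center_SU_iff hF le_rfl g).1 h1
  have h5 : c = 1 := eq_one_of_pow_three hF (n := 1) (by rw [pow_one]; exact h2)
  apply ext_act
  intro x
  rw [h4, act_one, act_def, mat_def, Cfsg.Agent.LieClassical.SUBasic.coe_suScalar]
  ext i
  rw [Matrix.mulVec_diagonal, h5, one_mul]

/-- `SU₃(3) = PSU₃(3)` -/
noncomputable def prEquiv : SU 3 F 3 ≃* PSU 3 F 3 := MulEquiv.ofBijective (pr 3 F 3) ⟨pr_inj hF, pr_surjective⟩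

theorem u33_su : U33 (SU 3 F 3) := by
  refine ⟨card_su hF, ?_, inv_le hF, comm_le hF, el hF, fun g z h1 h2 h3 h4 => seven hF h1 h2 h3 h4,
    fun g c z h1 h2 h3 h4 h5 h6 h7 => three hF h1 h2 h3 h4 h5 h6 h7, ti hF, syl hF⟩
  have h1 : IsSimpleGroup (PSU 3 F 3) := Cfsg.Agent.S0283.result hF 3 le_rfl (by norm_num)
  exact (prEquiv hF).isSimpleGroup

theorem card_psu : Nat.card (PSU 3 F 3) = 6048 := by
  rw [← card_su hF]
  exact Nat.card_congr (prEquiv hF).symm.toEquiv

theorem card_mulAut : Nat.card (MulAut (PSU 3 F 3)) = 12096 := by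
  have := Fact.mk Nat.prime_three
  have h1 := Cfsg.Agent.S0815.result (F := F) 3 1 le_rfl (q := 3) (by norm_num) hF 3 le_rfl (by norm_num)
  rw [h1, card_psu hF]
  norm_num

end Lin

end Cfsg.Agent.H119.EP
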