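import Cfsg.Agent.H119.EP.UCount

/-!
# The objects (helper119, task 5949)
-/

set_option autoImplicit false
set_option linter.unusedSectionVars false

namespace Cfsg.Agent.H119.EP

open Subgroup

/-- elementary abelian subgroups of order 4 -/
def TF (N : Type*) [Group N] : Set (Subgroup N) := {V | Nat.card V = 4 ∧ ∀ v ∈ V, v * v = 1}

/-- the objects -/
def Obj (N : Type*) [Group N] : Set (Subgroup N) :=
  {P | ∃ S : Sylow 3 N, P = S} ∪ {P | Nat.card P = 7} ∪ {P | Nat.card P = 2} ∪ TF N ∪ KT N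

/-- pairs of commuting involutions -/
def prs (N : Type*) [Group N] : Set (N × N) :=
  {p | (p.1 * p.1 = 1 ∧ p.1 ≠ 1) ∧ (p.2 * p.2 = 1 ∧ p.2 ≠ 1 ∧ p.2 ≠ p.1 ∧ p.2 * p.1 = p.1 * p.2)}

variable {N : Type*} [Group N] (h : U33 N)

include h

theorem U33.ncard_prs : (prs N).ncard ≤ 630 := by
  classical
  have := h.finite
  have := Fintype.ofFinite N
  have h1 := Finset.card_le_mul_card_image_of_maps_to (s := (prs N).toFinset)
    (t := {z : N | z * z = 1 ∧ z ≠ 1}.toFinset) (f := Prod.fst) (by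
      intro p hp
      rw [Set.mem_toFinset] at hp
      exact Set.mem_toFinset.2 hp.1) 10 (by
      intro z hz
      rw [Set.mem_toFinset] at hz
      refine le_trans ?_ (h.comm_le z hz.1 hz.2)
      rw [← Set.ncard_coe_finset]
      apply Set.ncard_le_ncard_of_injOn Prod.snd
      · rintro ⟨a, b⟩ hp
        rw [Finset.mem_coe, Finset.mem_filter, Set.mem_toFinset] at hp
        obtain ⟨h2, rfl⟩ := hp
        exact h2.2
      · rintro ⟨a, b⟩ hp ⟨a', b'⟩ hp' e
        rw [Finset.mem_coe, Finset.mem_filter] at hp hp'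
        exact Prod.ext (hp.2.trans hp'.2.symm) e)
  rw [← Set.ncard_eq_toFinset_card', ← Set.ncard_eq_toFinset_card'] at h1
  have h2 := h.inv_le
  omega

theorem U33.ncard_TF : (TF N).ncard ≤ 105 := by
  classical
  have := h.finite
  have := Fintype.ofFinite N
  have h1 := double (TF N) (prs N) (fun V p => p.1 ∈ V ∧ p.2 ∈ V) 6 (by
      intro V hV
      have h2 : ((((V : Set N).toFinset).erase 1).offDiag : Finset (N × N)) ⊆
          ({b | b ∈ prs N ∧ (b.1 ∈ V ∧ b.2 ∈ V)} : Set (N × N)).toFinset := by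
        intro p hp
        rw [Finset.mem_offDiag, Finset.mem_erase, Finset.mem_erase, Set.mem_toFinset, Set.mem_toFinset] at hp
        obtain ⟨⟨h3, h4⟩, ⟨h5, h6⟩, h7⟩ := hp
        rw [Set.mem_toFinset]
        refine ⟨⟨⟨hV.2 _ h4, h3⟩, hV.2 _ h6, h5, Ne.symm h7, ?_⟩, h4, h6⟩
        have h8 := hV.2 _ (V.mul_mem h6 h4)
        have e1 : p.2 * p.1 = (p.2 * p.1)⁻¹ := by
          rw [eq_inv_iff_mul_eq_one]; exact h8
        have e2 : p.1⁻¹ = p.1 := (eq_inv_of_mul_eq_one_left (hV.2 _ h4)).symm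
        have e3 : p.2⁻¹ = p.2 := (eq_inv_of_mul_eq_one_left (hV.2 _ h6)).symm
        rw [e1, mul_inv_rev, e2, e3]
      have h3 := Finset.card_le_card h2
      rw [Finset.offDiag_card, Finset.card_erase_of_mem (by rw [Set.mem_toFinset]; exact V.one_mem),
        ← Set.ncard_eq_toFinset_card', ← Set.ncard_eq_toFinset_card'] at h3
      have h4 : (V : Set N).ncard = 4 := hV.1
      rw [h4] at h3
      exact h3)
    (by
      rintro ⟨z, w⟩ ⟨hz, hw⟩ V hV V' hV' ⟨h2, h3⟩ ⟨h4, h5⟩
      simp only at hz hw h2 h3 h4 h5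
      have h6 : 3 ≤ Nat.card (V ⊓ V' : Subgroup N) := by
        have h7 : ({1, z, w} : Finset N) ⊆ ((V ⊓ V' : Subgroup N) : Set N).toFinset := by
          intro x hx
          rw [Set.mem_toFinset]
          simp only [Finset.mem_insert, Finset.mem_singleton] at hx
          rcases hx with rfl | rfl | rfl
          · exact one_mem _
          · exact ⟨h2, h4⟩
          · exact ⟨h3, h5⟩
        have h8 := Finset.card_le_card h7
        rw [Finset.card_insert_of_notMem (by simp [hz.2.symm, hw.2.1.symm]),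
          Finset.card_insert_of_notMem (by simp [hw.2.2.1.symm]), Finset.card_singleton,
          ← Set.ncard_eq_toFinset_card'] at h8
        exact h8
      have h7 : Nat.card (V ⊓ V' : Subgroup N) ∣ 4 := by
        rw [← hV.1]
        exact card_dvd_of_le inf_le_left
      have h8 : Nat.card (V ⊓ V' : Subgroup N) = 4 := by
        have h9 := Nat.le_of_dvd (by norm_num) h7
        interval_cases hc : Nat.card (V ⊓ V' : Subgroup N)
        · revert h7; decide
        · rfl
      have e1 : V ⊓ V' = V := eq_of_le_of_card_ge inf_le_left (by rw [h8, hV.1])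
      have e2 : V ⊓ V' = V' := eq_of_le_of_card_ge inf_le_right (by rw [h8, hV'.1])
      rw [← e1, e2])
  have h2 := h.ncard_prs
  omega

theorem U33.ncard_two : {P : Subgroup N | Nat.card P = 2}.ncard ≤ 63 := by
  have := h.finite
  refine le_trans ?_ h.inv_le
  refine le_trans (Set.ncard_le_ncard (t := (fun z : N => zpowers z) '' {z : N | z * z = 1 ∧ z ≠ 1}) ?_
    (Set.toFinite _)) (Set.ncard_image_le (Set.toFinite _))
  intro P hP
  have := Fact.mk Nat.prime_two
  obtain ⟨z, hz⟩ := exists_prime_orderOf_dvd_card' 2 (show 2 ∣ Nat.card P by rw [show Nat.card P = 2 from hP])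
  have hzz : (z : N) * z = 1 := by
    have h1 := pow_orderOf_eq_one z
    rw [hz, pow_two] at h1
    exact congrArg Subtype.val h1
  have hz1 : (z : N) ≠ 1 := by
    intro e
    have h1 : z = 1 := Subtype.ext e
    rw [h1, orderOf_one] at hz
    omega
  refine ⟨z, ⟨hzz, hz1⟩, ?_⟩
  apply eq_of_le_of_card_ge
  · rw [zpowers_le]; exact z.2
  · rw [show Nat.card P = 2 from hP, Nat.card_zpowers, orderOf_coe, hz]

theorem U33.ncard_syl : {P : Subgroup N | ∃ S : Sylow 3 N, P = S}.ncard ≤ 28 := by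
  have := h.finite
  refine le_trans ?_ h.syl
  rw [← Set.ncard_univ]
  refine le_trans (Set.ncard_le_ncard (t := (fun S : Sylow 3 N => (S : Subgroup N)) '' Set.univ) ?_
    (Set.toFinite _)) (Set.ncard_image_le (Set.toFinite _))
  rintro _ ⟨S, rfl⟩
  exact ⟨S, Set.mem_univ _, rfl⟩

theorem U33.ncard_obj : (Obj N).ncard ≤ 592 := by
  have h1 := Set.ncard_union_le ({P : Subgroup N | ∃ S : Sylow 3 N, P = S} ∪ {P : Subgroup N | Nat.card P = 7} ∪
    {P : Subgroup N | Nat.card P = 2} ∪ TF N) (KT N)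
  have h2 := Set.ncard_union_le ({P : Subgroup N | ∃ S : Sylow 3 N, P = S} ∪ {P : Subgroup N | Nat.card P = 7} ∪
    {P : Subgroup N | Nat.card P = 2}) (TF N)
  have h3 := Set.ncard_union_le ({P : Subgroup N | ∃ S : Sylow 3 N, P = S} ∪ {P : Subgroup N | Nat.card P = 7})
    {P : Subgroup N | Nat.card P = 2}
  have h4 := Set.ncard_union_le {P : Subgroup N | ∃ S : Sylow 3 N, P = S} {P : Subgroup N | Nat.card P = 7}
  have a1 := h.ncard_syl
  have a2 := h.ncard_seven
  have a3 := h.ncard_two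
  have a4 := h.ncard_TF
  have a5 := h.ncard_KT
  unfold Obj
  omega

theorem U33.obj_ne {O : Subgroup N} (hO : O ∈ Obj N) : O ≠ ⊥ ∧ O ≠ ⊤ := by
  have := h.finite
  have := Fact.mk Nat.prime_three
  have key : ∀ n : ℕ, Nat.card O = n → 1 < n → n < 6048 → O ≠ ⊥ ∧ O ≠ ⊤ := by
    intro n hn h1 h2
    constructor
    · rintro rfl
      rw [card_bot] at hn
      omega
    · rintro rfl
      rw [card_top, h.card] at hn
      omega
  rcases hO with (((⟨S, rfl⟩ | hO) | hO) | hO) | hO
  · have h3 : Nat.card (S : Subgroup N) ∣ 27 := by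
      obtain ⟨k, hk⟩ := IsPGroup.iff_card.1 S.isPGroup'
      have h4 : Nat.card (S : Subgroup N) ∣ 6048 := h.card_dvd _
      rw [hk] at h4 ⊢
      have h5 : (3 ^ k).Coprime 224 := Nat.Coprime.pow_left _ (by norm_num)
      exact h5.dvd_of_dvd_mul_left (show 3 ^ k ∣ 224 * 27 from h4)
    have h4 : 3 ∣ Nat.card (S : Subgroup N) := S.dvd_card_of_dvd_card (by rw [h.card]; norm_num)
    have h5 := Nat.le_of_dvd (by norm_num) h3
    refine key _ rfl ?_ (by omega)
    have := Nat.le_of_dvd Nat.card_pos h4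
    omega
  · exact key 7 hO (by norm_num) (by norm_num)
  · exact key 2 hO (by norm_num) (by norm_num)
  · exact key 4 hO.1 (by norm_num) (by norm_num)
  · exact key 168 hO.1 (by norm_num) (by norm_num)

end Cfsg.Agent.H119.EP
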