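import Cfsg.Agent.H119.EP.UEPT
import Cfsg.Agent.H119.EP.ULin3

/-!
# S3499-IV-L, `U₃(3)` (helper119, task 5949)
-/

set_option autoImplicit false

namespace Cfsg.Agent.H119.EP

open Subgroup Cfsg Cfsg.Agent.H284

variable {Q : Type*} [Group Q] [Finite Q] {A : Subgroup Q} {Γ : Subgroup (MulAut Q)} {N : Subgroup Q}
  {F : Type*} [Field F] [Fintype F]

theorem card_mulAut_le (hF : Fintype.card F = 3 ^ 2) (e : N ≃* PSU 3 F 3) : Nat.card (MulAut N) ≤ 12096 := by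
  rw [Nat.card_congr (MulAut.congr e).toEquiv, Lin.card_mulAut hF]

theorem u33_N (hF : Fintype.card F = 3 ^ 2) (e : N ≃* PSU 3 F 3) : U33 N :=
  U33.of_equiv (e.trans (Lin.prEquiv hF).symm) (Lin.u33_su hF)

/-- **S3499-IV-L, `U₃(3)`** -/
theorem index_le_psu33 (h : EPT A Γ) (hNA : N ≤ A) (hNn : ∀ a ∈ A, ∀ n ∈ N, a * n * a⁻¹ ∈ N)
    (hF : Fintype.card F = 3 ^ 2) (e : N ≃* PSU 3 F 3) (hC : ∀ a ∈ A, (∀ n ∈ N, a * n = n * a) → a = 1) :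
    A.index ≤ 379000 :=
  index_le_of h hNA hNn (u33_N hF e) hC (card_mulAut_le hF e)

/-- the number of `A ∩ A^x` -/
theorem ncard_psu33 (h : EPT A Γ) (hNA : N ≤ A) (hNn : ∀ a ∈ A, ∀ n ∈ N, a * n * a⁻¹ ∈ N)
    (hF : Fintype.card F = 3 ^ 2) (e : N ≃* PSU 3 F 3) (hC : ∀ a ∈ A, (∀ n ∈ N, a * n = n * a) → a = 1) :
    {M : Subgroup Q | ∃ x, x ∉ A ∧ M = A ⊓ cj x A}.ncard ≤ 592 := by
  have hU := u33_N hF e
  have := hU.finite
  have h1 : {M : Subgroup Q | ∃ x, x ∉ A ∧ M = A ⊓ cj x A} ⊆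
      (fun O : Subgroup N => A ⊓ normalizer ((O.map N.subtype : Subgroup Q) : Set Q)) '' Obj N := by
    rintro _ ⟨x, hx, rfl⟩
    obtain ⟨O, hO, e⟩ := exists_O h hNA hNn hU hC (card_mulAut_le hF e) hx
    exact ⟨O, hO, e.symm⟩
  exact ((Set.ncard_le_ncard h1 (Set.toFinite _)).trans (Set.ncard_image_le (Set.toFinite _))).trans hU.ncard_obj

/-- `|Q| < |PSp₆(3)|` -/
theorem card_le_psu33 (h : EPT A Γ) (hNA : N ≤ A) (hNn : ∀ a ∈ A, ∀ n ∈ N, a * n * a⁻¹ ∈ N)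
    (hF : Fintype.card F = 3 ^ 2) (e : N ≃* PSU 3 F 3) (hC : ∀ a ∈ A, (∀ n ∈ N, a * n = n * a) → a = 1) :
    Nat.card Q ≤ 4239212544 := by
  have h1 := ncard_psu33 h hNA hNn hF e hC
  have h2 := h.index_le
  have h3 := Nat.pow_le_pow_left h1 2
  have h4 := card_A hNA hNn (u33_N hF e) hC (card_mulAut_le hF e)
  rw [← A.card_mul_index]
  calc Nat.card A * A.index ≤ 12096 * 592 ^ 2 := Nat.mul_le_mul h4 (h2.trans h3)
    _ = 4239212544 := by norm_num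

end Cfsg.Agent.H119.EP
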